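import Groth.Agent.Lib.LocImm8.Near
import Mathlib.AlgebraicGeometry.Stalk

/-!
# Localizable properties
-/

set_option autoImplicit false
set_option backward.isDefEq.respectTransparency false
set_option linter.style.haveILetI false

universe u

open CategoryTheory AlgebraicGeometry TopologicalSpace

namespace GrothLib.LocImm8

/-- The morphism from the spectrum of a local ring is a localizing immersion. -/
theorem isLocImmersion_fromSpecStalk (X : Scheme.{u}) (x : X) : LocImm.IsLocImmersion (X.fromSpecStalk x) := by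
  refine isLocImmersion_of_affine_nhd fun p => ?_
  obtain ⟨U, hU, hxU, -⟩ := exists_isAffineOpen_mem_and_subset (x := x) (U := ⊤) trivial
  have hsp : X.fromSpecStalk x p ⤳ x := by
    have hr : X.fromSpecStalk x p ∈ Set.range (X.fromSpecStalk x) := ⟨p, rfl⟩
    rw [Scheme.range_fromSpecStalk] at hr
    exact hr
  have hpU : X.fromSpecStalk x p ∈ U := hsp.mem_open U.2 hxU
  have htop : X.fromSpecStalk x ⁻¹ᵁ U = ⊤ := top_unique fun q _ => by
    have hr : X.fromSpecStalk x q ∈ Set.range (X.fromSpecStalk x) := ⟨q, rfl⟩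
    rw [Scheme.range_fromSpecStalk] at hr
    exact (show X.fromSpecStalk x q ⤳ x from hr).mem_open U.2 hxU
  refine ⟨U, hpU, hU, htop ▸ isAffineOpen_top _, ?_⟩
  have h := Scheme.fromSpecStalk_app (X := X) (U := U) (x := x) hxU
  haveI := hU.isLocalization_stalk ⟨x, hxU⟩
  letI := (X.presheaf.germ U x hxU).hom.toAlgebra
  have hg : LocImm.IsLocHom (X.presheaf.germ U x hxU).hom := ⟨(hU.primeIdealOf ⟨x, hxU⟩).asIdeal.primeCompl,
    hU.isLocalization_stalk ⟨x, hxU⟩⟩
  refine isLocHom_congr (X.presheaf.germ U x hxU) _ (Iso.refl _)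
    ((Scheme.ΓSpecIso (X.presheaf.stalk x)).symm ≪≫
      (Spec (X.presheaf.stalk x)).presheaf.mapIso (eqToIso htop).op) ?_ hg
  rw [h]
  simp
  rfl

variable (P : MorphismProperty Scheme.{u})
  (hα : ∀ {W X Y : Scheme.{u}} [IsNoetherian W] [IsNoetherian X] [IsNoetherian Y] (i : W ⟶ X) (f : X ⟶ Y)
    [IsSeparated f] [EssFT.EssFiniteType f], LocImm.IsLocImmersion i → P f → P (i ≫ f))

include hα in
theorem comp_iff_of_isIso {W X Y : Scheme.{u}} [IsNoetherian W] [IsNoetherian X] [IsNoetherian Y] (e : W ⟶ X)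
    [IsIso e] (f : X ⟶ Y) [IsSeparated f] [EssFT.EssFiniteType f] : P (e ≫ f) ↔ P f := by
  refine ⟨fun h => ?_, hα e f (isLocImmersion_of_openImmersion e)⟩
  haveI : EssFT.EssFiniteType (e ≫ f) := by
    haveI : EssFT.LocallyEssFiniteType e := locallyEssFiniteType_of_locallyOfFiniteType e
    haveI := locallyEssFiniteType_comp e f
    exact ⟨⟩
  have := hα (inv e) (e ≫ f) (isLocImmersion_of_openImmersion _) h
  rwa [IsIso.inv_hom_id_assoc] at this

theorem isNoetherian_specStalk {X : Scheme.{u}} [IsLocallyNoetherian X] (x : X) :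
    IsNoetherian (Spec (X.presheaf.stalk x)) := inferInstance

instance essFiniteType_comp {W X Y : Scheme.{u}} (i : W ⟶ X) (f : X ⟶ Y) [QuasiCompact i]
    [EssFT.LocallyEssFiniteType i] [EssFT.EssFiniteType f] : EssFT.EssFiniteType (i ≫ f) :=
  have := locallyEssFiniteType_comp i f
  ⟨⟩

variable (hβ₁ : ∀ {X Y : Scheme.{u}} [IsNoetherian X] [IsNoetherian Y] (f : X ⟶ Y) [IsSeparated f]
    [LocallyOfFiniteType f], (∀ x : X, P (X.fromSpecStalk x ≫ f)) → P f)
  (hβ₂ : ∀ {X Y : Scheme.{u}} [IsNoetherian X] [IsNoetherian Y] (f : X ⟶ Y) [IsSeparated f]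
    [LocallyOfFiniteType f], IsOpen {x : X | P (X.fromSpecStalk x ≫ f)})

include hα in
theorem stalk_iff {W X Y : Scheme.{u}} [IsNoetherian W] [IsNoetherian X] [IsNoetherian Y] (i : W ⟶ X)
    (f : X ⟶ Y) [IsSeparated f] [EssFT.EssFiniteType f] (hi : LocImm.IsLocImmersion i) (w : W) :
    P (W.fromSpecStalk w ≫ i ≫ f) ↔ P (X.fromSpecStalk (i w) ≫ f) := by
  haveI := isIso_stalkMap hi.1 w
  haveI : EssFT.LocallyEssFiniteType (X.fromSpecStalk (i w)) :=
    locallyEssFiniteType_of_isLocalizing (isLocImmersion_fromSpecStalk X (i w)).1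
  haveI := mono (isLocImmersion_fromSpecStalk X (i w))
  rw [← Scheme.SpecMap_stalkMap_fromSpecStalk_assoc]
  exact comp_iff_of_isIso P hα (Spec.map (i.stalkMap w)) (X.fromSpecStalk (i w) ≫ f)

include hα hβ₁ hβ₂ in
/-- A localizable property holds when it holds at all local rings, its locus is open, and morphisms with the
property factor through a morphism of finite type with the property. -/
theorem localizable {X Y : Scheme.{u}} [IsNoetherian X] [IsNoetherian Y] (f : X ⟶ Y) [IsSeparated f]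
    [EssFT.EssFiniteType f] :
    ((∀ x : X, P (X.fromSpecStalk x ≫ f)) → P f) ∧ IsOpen {x : X | P (X.fromSpecStalk x ≫ f)} ∧
      (P f → ∃ (Z : Scheme.{u}) (i : X ⟶ Z) (h : Z ⟶ Y), IsNoetherian Z ∧ LocImm.IsLocImmersion i ∧
        IsSeparated h ∧ LocallyOfFiniteType h ∧ QuasiCompact h ∧ P h ∧ i ≫ h = f) := by
  obtain ⟨Z, i, q, hZ, hi, hqs, hqft, hqc, -, hiq⟩ := exists_factor f
  haveI : EssFT.EssFiniteType q :=
    haveI := locallyEssFiniteType_of_locallyOfFiniteType q
    ⟨⟩
  have hset : ∀ x : X, P (X.fromSpecStalk x ≫ f) ↔ P (Z.fromSpecStalk (i x) ≫ q) := fun x => by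
    rw [← hiq]; exact stalk_iff P hα i q hi x
  let O : Z.Opens := ⟨{z | P (Z.fromSpecStalk z ≫ q)}, hβ₂ q⟩
  have key : (∀ x : X, P (X.fromSpecStalk x ≫ f)) → ∃ (Z' : Scheme.{u}) (i' : X ⟶ Z') (h : Z' ⟶ Y),
      IsNoetherian Z' ∧ LocImm.IsLocImmersion i' ∧ IsSeparated h ∧ LocallyOfFiniteType h ∧ QuasiCompact h ∧
        P h ∧ i' ≫ h = f ∧ EssFT.EssFiniteType h := by
    intro hall
    haveI : IsNoetherian O.toScheme := by
      haveI : IsLocallyNoetherian O.toScheme := isLocallyNoetherian_of_isOpenImmersion O.ι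
      haveI : CompactSpace O.toScheme := isCompact_iff_compactSpace.1 (NoetherianSpace.isCompact _)
      exact ⟨⟩
    have hr : Set.range i ⊆ Set.range O.ι := by
      rw [Scheme.Opens.range_ι]
      rintro _ ⟨x, rfl⟩
      exact (hset x).1 (hall x)
    let i' := IsOpenImmersion.lift O.ι i hr
    have hi' : i' ≫ O.ι = i := IsOpenImmersion.lift_fac _ _ _
    haveI : EssFT.EssFiniteType (O.ι ≫ q) :=
      haveI := locallyEssFiniteType_of_locallyOfFiniteType (O.ι ≫ q)
      ⟨⟩
    refine ⟨O, i', O.ι ≫ q, inferInstance, isLocImmersion_of_comp_openImmersion O.ι (by rw [hi']; exact hi),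
      inferInstance, inferInstance, inferInstance, hβ₁ _ fun o => ?_, by rw [← Category.assoc, hi', hiq],
      inferInstance⟩
    exact (stalk_iff P hα O.ι q (isLocImmersion_of_openImmersion _) o).2 o.2
  refine ⟨fun hall => ?_, ?_, fun hP => ?_⟩
  · obtain ⟨Z', i', h, _, hi', _, _, _, hPh, e, _⟩ := key hall
    rw [← e]
    exact hα i' h hi' hPh
  · have : {x : X | P (X.fromSpecStalk x ≫ f)} = i ⁻¹' O := Set.ext hset
    rw [this]
    exact O.2.preimage i.continuous
  · obtain ⟨Z', i', h, h1, h2, h3, h4, h5, h6, h7, -⟩ := key fun x => hα _ f (isLocImmersion_fromSpecStalk X x) hP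
    exact ⟨Z', i', h, h1, h2, h3, h4, h5, h6, h7⟩

end GrothLib.LocImm8
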