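import Groth.Agent.Lib.LocImm8.BlowUp
import Groth.Agent.Lib.Nagata6.CommonCor
import Groth.Agent.Lib.Nagata6.UnionData

/-!
# A common target of admissible blow-ups for a localizing subscheme
-/

set_option autoImplicit false
set_option backward.isDefEq.respectTransparency false
set_option linter.style.haveILetI false

universe u

open CategoryTheory CategoryTheory.Limits AlgebraicGeometry TopologicalSpace

namespace GrothLib.LocImm8

/-- A point over the off-centre image of a lift is in the range of the lift. -/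
theorem mem_range_of_off_center {U Z Zt : Scheme.{u}} {Q : Z.IdealSheafData} {b : Zt ⟶ Z}
    (hb : BlowUp.IsBlowUp b Q) (u : U ⟶ Zt) (j : U ⟶ Z) (hu : u ≫ b = j)
    (hd : Disjoint (Q.support : Set Z) (Set.range j)) {y : Zt} (hy : b y ∈ Set.range j) : y ∈ Set.range u := by
  obtain ⟨z, hz⟩ := hy
  have hM : ∀ w, b w = j z → w ∈ b ⁻¹ᵁ Q.support.compl := fun w e hw =>
    Set.disjoint_left.mp hd hw ⟨z, e.symm⟩
  have huz : b (u z) = j z := by rw [← Scheme.Hom.comp_apply, hu]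
  have := GrothLib.BlowUp.isIso_off_center hb
  have he : (b ∣_ Q.support.compl) ⟨y, hM y hz.symm⟩ = (b ∣_ Q.support.compl) ⟨u z, hM _ huz⟩ := by
    apply (Scheme.Opens.ι Q.support.compl).isOpenEmbedding.injective
    rw [← Scheme.Hom.comp_apply, ← Scheme.Hom.comp_apply, morphismRestrict_ι]
    exact hz.symm.trans huz.symm
  exact ⟨z, (congrArg Subtype.val ((b ∣_ Q.support.compl).homeomorph.injective he)).symm⟩

/-- An open neighbourhood in which a generalization-closed subset is dense. -/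
theorem exists_dense_nhd {T : Type*} [TopologicalSpace T] [NoetherianSpace T] [QuasiSober T] (A : Set T)
    (hA : StableUnderGeneralization A) : ∃ L : Opens T, A ⊆ L ∧ (L : Set T) ⊆ closure A := by
  let R : Set (irreducibleComponents T) := {C | Disjoint (C : Set T) A}
  haveI : Finite (irreducibleComponents T) := NoetherianSpace.finite_irreducibleComponents.to_subtype
  refine ⟨⟨(⋃ C ∈ R, (C : Set T))ᶜ,
    (R.toFinite.isClosed_biUnion fun C _ => isClosed_of_mem_irreducibleComponents C.1 C.2).isOpen_compl⟩, ?_, ?_⟩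
  · intro x hx hx'
    obtain ⟨C, hC, hxC⟩ := Set.mem_iUnion₂.1 hx'
    exact Set.disjoint_left.1 hC hxC hx
  · intro y hy
    obtain ⟨η, hη⟩ := QuasiSober.sober isIrreducible_irreducibleComponent (isClosed_irreducibleComponent (x := y))
    have hC : ¬ Disjoint (irreducibleComponent y) A := fun hC => hy (Set.mem_iUnion₂.2
      ⟨⟨_, irreducibleComponent_mem_irreducibleComponents y⟩, hC, mem_irreducibleComponent⟩)
    obtain ⟨x, hxC, hxA⟩ := Set.not_disjoint_iff.1 hC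
    exact closure_mono (Set.singleton_subset_iff.2 (hA (hη.specializes hxC) hxA))
      (specializes_iff_mem_closure.1 (hη.specializes mem_irreducibleComponent))

/-- Blowing up the complement of an open in which the image is dense makes the image dense. -/
theorem dense_range_lift {U V Z Zt : Scheme.{u}} {Q : Z.IdealSheafData} {b : Zt ⟶ Z}
    (hb : BlowUp.IsBlowUp b Q) (j : V ⟶ Z) (hs : (Q.support : Set Z) = (Set.range j)ᶜ)
    (u : V ⟶ Zt) (hu : u ≫ b = j) (t : U ⟶ V) (ht : DenseRange t) : DenseRange (t ≫ u) := by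
  have hd : Dense (Set.range u) := by
    refine (QuasiDom6.dense_compl_support hb.1).mono fun y hy => ?_
    rw [Scheme.IdealSheafData.support_comap] at hy
    refine mem_range_of_off_center hb u j hu (by rw [hs]; exact disjoint_compl_left) ?_
    have : b y ∈ (Q.support : Set Z)ᶜ := hy
    rwa [hs, compl_compl] at this
  rw [Scheme.Hom.comp_base, TopCat.coe_comp]
  exact DenseRange.comp hd ht u.continuous

/-- A single scheme: a blow-up in which the localizing subscheme is dense. -/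
theorem exists_dense_blowUp {U X : Scheme.{u}} [IsNoetherian U] [IsNoetherian X] (k : U ⟶ X)
    (hk : LocImm.IsLocImmersion k) :
    ∃ (P : X.IdealSheafData) (Xt : Scheme.{u}) (c : Xt ⟶ X) (u : U ⟶ Xt),
      BlowUp.IsBlowUp c P ∧ BlowUp.IsFiniteTypeIdeal P ∧ Disjoint (P.support : Set X) (Set.range k) ∧
      u ≫ c = k ∧ LocImm.IsLocImmersion u ∧ DenseRange u := by
  obtain ⟨L, hL, hLd⟩ := exists_dense_nhd (Set.range k) (range_stableUnderGeneralization hk.1)
  let L' : X.Opens := L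
  obtain ⟨B, hB, hBs⟩ := FgSupport6.exists_fg_support_eq L' (NoetherianSpace.isCompact _)
  obtain ⟨Xt, c, hc⟩ := GrothLib.BlowUp.exists_isBlowUp X B
  let t : U ⟶ L'.toScheme := IsOpenImmersion.lift L'.ι k (by rw [Scheme.Opens.range_ι]; exact hL)
  have ht : t ≫ L'.ι = k := IsOpenImmersion.lift_fac _ _ _
  have htd : DenseRange t := by
    show Dense (Set.range t)
    rw [L'.ι.isOpenEmbedding.isInducing.dense_iff]
    intro y
    rw [← Set.range_comp, ← TopCat.coe_comp, ← Scheme.Hom.comp_base, ht]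
    exact hLd y.2
  obtain ⟨v, hvo, hv, -⟩ := Nagata6.exists_lift_off hc L'.ι
    (by rw [hBs, Scheme.Opens.range_ι]; exact disjoint_compl_left)
  refine ⟨B, Xt, c, t ≫ v, hc, hB, by rw [hBs]; exact disjoint_compl_left.mono_right hL,
    by rw [Category.assoc, hv, ht],
    isLocImmersion_comp_openImmersion (isLocImmersion_of_comp_openImmersion L'.ι (ht.symm ▸ hk)) v,
    dense_range_lift hc L'.ι (by rw [hBs, Scheme.Opens.range_ι]) v hv t htd⟩

/-- Two schemes: a common separated target of admissible blow-ups in which the localizing subscheme is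
dense. -/
theorem exists_common_two {S U X₁ X₂ : Scheme.{u}} [IsNoetherian S] [IsNoetherian U] [IsNoetherian X₁]
    [IsNoetherian X₂] (g₁ : X₁ ⟶ S) (g₂ : X₂ ⟶ S) [IsSeparated g₁] [IsSeparated g₂]
    [LocallyOfFiniteType g₁] [LocallyOfFiniteType g₂]
    (k₁ : U ⟶ X₁) (k₂ : U ⟶ X₂) (hk₁ : LocImm.IsLocImmersion k₁) (hk₂ : LocImm.IsLocImmersion k₂)
    (h : k₁ ≫ g₁ = k₂ ≫ g₂) :
    ∃ (X : Scheme.{u}) (q : X ⟶ S) (_ : IsSeparated q) (_ : LocallyOfFiniteType q) (_ : QuasiCompact q)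
      (P₁ : X₁.IdealSheafData) (P₂ : X₂.IdealSheafData) (Y₁ Y₂ : Scheme.{u}) (c₁ : Y₁ ⟶ X₁) (c₂ : Y₂ ⟶ X₂)
      (o₁ : Y₁ ⟶ X) (o₂ : Y₂ ⟶ X) (u : U ⟶ X) (u₁ : U ⟶ Y₁) (u₂ : U ⟶ Y₂),
      BlowUp.IsBlowUp c₁ P₁ ∧ Disjoint (P₁.support : Set X₁) (Set.range k₁) ∧
      BlowUp.IsBlowUp c₂ P₂ ∧ Disjoint (P₂.support : Set X₂) (Set.range k₂) ∧
      IsOpenImmersion o₁ ∧ IsOpenImmersion o₂ ∧ o₁ ≫ q = c₁ ≫ g₁ ∧ o₂ ≫ q = c₂ ≫ g₂ ∧
      u₁ ≫ c₁ = k₁ ∧ u₂ ≫ c₂ = k₂ ∧ u₁ ≫ o₁ = u ∧ u₂ ≫ o₂ = u ∧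
      LocImm.IsLocImmersion u ∧ DenseRange u := by
  let l : U ⟶ pullback g₁ g₂ := pullback.lift k₁ k₂ h
  haveI := Nagata6.isNoetherian_of_ft (pullback.fst g₁ g₂ ≫ g₁)
  haveI := Nagata6.isNoetherian_of_ft (l.imageι ≫ pullback.fst g₁ g₂ ≫ g₁)
  have hl : LocImm.IsLocImmersion l.toImage :=
    isLocImmersion_toImage l (pullback.fst g₁ g₂) (by rw [pullback.lift_fst]; exact hk₁)
  let e₁ := l.imageι ≫ pullback.fst g₁ g₂
  let e₂ := l.imageι ≫ pullback.snd g₁ g₂
  have he₁ : l.toImage ≫ e₁ = k₁ := by simp only [e₁, Scheme.Hom.toImage_imageι_assoc]; exact pullback.lift_fst _ _ _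
  have he₂ : l.toImage ≫ e₂ = k₂ := by simp only [e₂, Scheme.Hom.toImage_imageι_assoc]; exact pullback.lift_snd _ _ _
  obtain ⟨L₁, hL₁, hLo₁⟩ := exists_isOpenImmersion_near e₁ hl (he₁.symm ▸ hk₁)
  obtain ⟨L₂, hL₂, hLo₂⟩ := exists_isOpenImmersion_near e₂ hl (he₂.symm ▸ hk₂)
  let L := L₁ ⊓ L₂
  haveI : IsOpenImmersion (L.ι ≫ e₁) := by
    rw [← Scheme.homOfLE_ι _ (inf_le_left : L ≤ L₁), Category.assoc]; infer_instance
  haveI : IsOpenImmersion (L.ι ≫ e₂) := by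
    rw [← Scheme.homOfLE_ι _ (inf_le_right : L ≤ L₂), Category.assoc]; infer_instance
  haveI : CompactSpace L.toScheme := isCompact_iff_compactSpace.1 (NoetherianSpace.isCompact _)
  let t : U ⟶ L.toScheme := IsOpenImmersion.lift L.ι l.toImage
    (by rw [Scheme.Opens.range_ι]; exact fun x hx => ⟨hL₁ hx, hL₂ hx⟩)
  have ht : t ≫ L.ι = l.toImage := IsOpenImmersion.lift_fac _ _ _
  have ht₁ : t ≫ L.ι ≫ e₁ = k₁ := by rw [reassoc_of% ht, he₁]
  have ht₂ : t ≫ L.ι ≫ e₂ = k₂ := by rw [reassoc_of% ht, he₂]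
  have htl : LocImm.IsLocImmersion t := isLocImmersion_of_comp_openImmersion L.ι (ht.symm ▸ hl)
  have htd : DenseRange t := by
    show Dense (Set.range t)
    rw [L.ι.isOpenEmbedding.isInducing.dense_iff]
    intro y
    rw [← Set.range_comp, ← TopCat.coe_comp, ← Scheme.Hom.comp_base, ht,
      (show DenseRange l.toImage from l.toImage.denseRange).closure_range]
    trivial
  have hg : (L.ι ≫ e₁) ≫ g₁ = (L.ι ≫ e₂) ≫ g₂ := by
    simp only [e₁, e₂, Category.assoc, pullback.condition]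
  obtain ⟨X, q, hq, hqc, hql, P₁, P₂, Y₁, Y₂, c₁, c₂, o₁, o₂, u₁, u₂, hc₁, hP₁, hP₁s, hc₂, hP₂, hP₂s, ho₁, ho₂,
      hq₁, hq₂, hu₁o, hu₂o, hu₁, hu₂, huo, hcov, -, -⟩ :=
    Nagata6.exists_common_target g₁ g₂ (L.ι ≫ e₁) (L.ι ≫ e₂) hg (L.ι ≫ e₁).opensRange (L.ι ≫ e₂).opensRange
      (isCompact_range (L.ι ≫ e₁).continuous) (isCompact_range (L.ι ≫ e₂).continuous) le_rfl le_rfl
      subset_closure subset_closure
      (Nagata6.cond_range_fst g₁ g₂ (L.ι ≫ e₁) (L.ι ≫ e₂) hg)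
      (Nagata6.cond_range_snd g₁ g₂ (L.ι ≫ e₁) (L.ι ≫ e₂) hg)
  refine ⟨X, q, hq, hql, hqc, P₁, P₂, Y₁, Y₂, c₁, c₂, o₁, o₂, t ≫ u₁ ≫ o₁, t ≫ u₁, t ≫ u₂, hc₁, ?_, hc₂, ?_,
    ho₁, ho₂, hq₁, hq₂, ?_, ?_, Category.assoc _ _ _, ?_, isLocImmersion_comp_openImmersion htl (u₁ ≫ o₁), ?_⟩
  · rw [hP₁s, ← ht₁, Scheme.Hom.coe_opensRange, Scheme.Hom.comp_base t, TopCat.coe_comp]
    exact disjoint_compl_left.mono_right (Set.range_comp_subset_range _ _)
  · rw [hP₂s, ← ht₂, Scheme.Hom.coe_opensRange, Scheme.Hom.comp_base t, TopCat.coe_comp]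
    exact disjoint_compl_left.mono_right (Set.range_comp_subset_range _ _)
  · rw [Category.assoc, hu₁, ht₁]
  · rw [Category.assoc, hu₂, ht₂]
  · rw [Category.assoc, huo]
  · have hd₁ := dense_range_lift hc₁ (L.ι ≫ e₁) hP₁s u₁ hu₁ t htd
    have hd₂ := dense_range_lift hc₂ (L.ι ≫ e₂) hP₂s u₂ hu₂ t htd
    intro x
    rcases hcov.ge (Set.mem_univ x) with ⟨y, rfl⟩ | ⟨y, rfl⟩
    · rw [← Category.assoc, Scheme.Hom.comp_base _ o₁, TopCat.coe_comp, Set.range_comp]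
      exact image_closure_subset_closure_image o₁.continuous ⟨y, hd₁ y, rfl⟩
    · rw [huo, ← Category.assoc, Scheme.Hom.comp_base _ o₂, TopCat.coe_comp, Set.range_comp]
      exact image_closure_subset_closure_image o₂.continuous ⟨y, hd₂ y, rfl⟩

theorem exists_common {S U : Scheme.{u}} [IsNoetherian S] [IsNoetherian U] (gU : U ⟶ S) :
    ∀ {n : ℕ} (X : Fin (n + 1) → Scheme.{u}) [∀ i, IsNoetherian (X i)] (p : ∀ i, X i ⟶ S)
      [∀ i, IsSeparated (p i)] [∀ i, LocallyOfFiniteType (p i)] (k : ∀ i, U ⟶ X i),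
      (∀ i, LocImm.IsLocImmersion (k i)) → (∀ i, k i ≫ p i = gU) →
    ∃ (Z : Scheme.{u}) (r : Z ⟶ S) (_ : IsSeparated r) (_ : LocallyOfFiniteType r) (_ : QuasiCompact r)
      (u : U ⟶ Z) (P : ∀ i, (X i).IdealSheafData) (Xt : Fin (n + 1) → Scheme.{u}) (c : ∀ i, Xt i ⟶ X i)
      (v : ∀ i, U ⟶ Xt i) (o : ∀ i, Xt i ⟶ Z),
      LocImm.IsLocImmersion u ∧ DenseRange u ∧ u ≫ r = gU ∧
      ∀ i, BlowUp.IsBlowUp (c i) (P i) ∧ Disjoint ((P i).support : Set (X i)) (Set.range (k i)) ∧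
        v i ≫ c i = k i ∧ IsOpenImmersion (o i) ∧ o i ≫ r = c i ≫ p i ∧ v i ≫ o i = u
  | 0, X, _, p, _, _, k, hk, hkp => by
    obtain ⟨P, Xt, c, u, hc, hP, hd, huc, hul, hud⟩ := exists_dense_blowUp (k 0) (hk 0)
    haveI := Nagata6.isProper_of_isBlowUp hP hc
    let P' : ∀ i, (X i).IdealSheafData := Fin.cases P (fun i => i.elim0)
    let c' : ∀ i, Xt ⟶ X i := Fin.cases c (fun i => i.elim0)
    refine ⟨Xt, c ≫ p 0, inferInstance, inferInstance, inferInstance, u, P', fun _ => Xt, c', fun _ => u,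
      fun _ => 𝟙 Xt, hul, hud, by rw [reassoc_of% huc]; exact hkp 0, ?_⟩
    refine Fin.cases ?_ (fun i => i.elim0)
    exact ⟨hc, hd, huc, inferInstance, Category.id_comp _, Category.comp_id _⟩
  | n + 1, X, _, p, _, _, k, hk, hkp => by
    obtain ⟨Z, r, hr, hrl, hrq, u, P, Xt, c, v, o, hu, -, hur, H⟩ :=
      exists_common gU (n := n) (fun i => X i.castSucc) (fun i => p i.castSucc) (fun i => k i.castSucc)
        (fun i => hk _) (fun i => hkp _)
    haveI := Nagata6.isNoetherian_of_ft r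
    obtain ⟨W, q, hq, hql, hqc, Q₁, Q₂, Y₁, Y₂, d₁, d₂, o₁, o₂, w, w₁, w₂, hd₁, hQ₁, hd₂, hQ₂, ho₁, ho₂,
        hoq₁, hoq₂, hw₁, hw₂, hwo₁, hwo₂, hwl, hwd⟩ :=
      exists_common_two r (p (Fin.last _)) u (k (Fin.last _)) hu (hk _) (hur.trans (hkp _).symm)
    have hQf := Nagata6.isFiniteTypeIdeal_of_noetherian Q₁
    have hR' : ∀ i : Fin (n + 1), ∃ R : (X i.castSucc).IdealSheafData,
        (R.support : Set (X i.castSucc)) = ((P i).support : Set _) ∪
          (fun y => c i y) '' ((Q₁.comap (o i)).support : Set (Xt i)) ∧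
        BlowUp.IsBlowUp (pullback.fst (o i) d₁ ≫ c i) R := fun i => by
      obtain ⟨hc, hP, hv, ho, hoc, hvo⟩ := H i
      obtain ⟨R, -, hRs, hRb⟩ := Nagata6.exists_isBlowUp_comp (Nagata6.isFiniteTypeIdeal_of_noetherian (P i))
        hc (Nagata6.fg_comap' Q₁ hQf (o i)) (GrothLib.BlowUp.isBlowUp_flat_baseChange (o i) hd₁)
      exact ⟨R, hRs, hRb⟩
    choose R hR using hR'
    have hvw : ∀ i : Fin (n + 1), v i ≫ o i = w₁ ≫ d₁ := fun i => (H i).2.2.2.2.2.trans hw₁.symm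
    have key : ∀ i, ∃ (R : (X i).IdealSheafData) (T : Scheme.{u}) (c : T ⟶ X i) (v : U ⟶ T) (o : T ⟶ W),
        BlowUp.IsBlowUp c R ∧ Disjoint (R.support : Set (X i)) (Set.range (k i)) ∧
        v ≫ c = k i ∧ IsOpenImmersion o ∧ o ≫ q = c ≫ p i ∧ v ≫ o = w := by
      refine Fin.lastCases ?_ (fun i => ?_)
      · exact ⟨Q₂, Y₂, d₂, w₂, o₂, hd₂, hQ₂, hw₂, ho₂, hoq₂, hwo₂⟩
      · obtain ⟨hc, hP, hv, ho, hoc, hvo⟩ := H i
        refine ⟨R i, _, pullback.fst (o i) d₁ ≫ c i, pullback.lift (v i) w₁ (hvw i),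
          pullback.snd (o i) d₁ ≫ o₁, (hR i).2, ?_, by rw [pullback.lift_fst_assoc, hv], inferInstance, ?_,
          by rw [pullback.lift_snd_assoc, hwo₁]⟩
        · rw [(hR i).1]
          refine Set.disjoint_left.2 ?_
          rintro _ hy ⟨z, rfl⟩
          rcases hy with hy | ⟨y, hy, hyz⟩
          · exact Set.disjoint_left.1 hP hy ⟨z, rfl⟩
          · change c i y = k i.castSucc z at hyz
            obtain ⟨z', rfl⟩ := mem_range_of_off_center hc (v i) _ hv hP (y := y) ⟨z, hyz.symm⟩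
            rw [Scheme.IdealSheafData.support_comap] at hy
            refine Set.disjoint_left.1 hQ₁ hy ⟨z', ?_⟩
            show u z' = o i (v i z')
            rw [← Scheme.Hom.comp_apply, hvo]
        · rw [Category.assoc, hoq₁, ← pullback.condition_assoc, hoc, Category.assoc]
    choose R T c' v' o' H' using key
    exact ⟨W, q, hq, hql, hqc, w, R, T, c', v', o', hwl, hwd,
      by rw [← hwo₂, Category.assoc, hoq₂, reassoc_of% hw₂]; exact hkp _, H'⟩

end GrothLib.LocImm8
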