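import Groth.Agent.Lib.LocImm8.Basic
import Mathlib.RingTheory.Localization.BaseChange
import Mathlib.RingTheory.Localization.Away.Basic
import Mathlib.AlgebraicGeometry.Morphisms.Flat

/-!
# Localizing immersions: affine neighbourhoods, open images, base change
-/

set_option autoImplicit false
set_option backward.isDefEq.respectTransparency false
set_option linter.style.haveILetI false

universe u

open CategoryTheory CategoryTheory.Limits AlgebraicGeometry TopologicalSpace Topology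

namespace GrothLib.LocImm8

/-- Inverting an element and its image preserves the localizing property. -/
theorem isLocHom_away {A B A' B' : Type u} [CommRing A] [CommRing B] [CommRing A'] [CommRing B']
    [Algebra A A'] [Algebra B B'] (a : A) (φ : A →+* B) (ψ : A' →+* B') [IsLocalization.Away a A']
    [IsLocalization.Away (φ a) B'] (hψ : ∀ x, ψ (algebraMap A A' x) = algebraMap B B' (φ x))
    (h : LocImm.IsLocHom φ) : LocImm.IsLocHom ψ := by
  letI := φ.toAlgebra
  obtain ⟨S, hS⟩ := h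
  letI := ψ.toAlgebra
  refine ⟨(IsUnit.submonoid B').comap ψ.toMonoidHom, ⟨fun s => s.2, fun z => ?_, fun {x y} e => ?_⟩⟩
  · obtain ⟨⟨β, _, n, rfl⟩, hβ⟩ := IsLocalization.surj (Submonoid.powers (φ a)) z
    obtain ⟨⟨r, s⟩, hr⟩ := IsLocalization.surj S β
    have hu : IsUnit (ψ (algebraMap A A' (a ^ n * s))) := by
      rw [map_mul, map_mul, hψ, hψ, map_pow, map_pow]
      exact ((IsLocalization.Away.algebraMap_isUnit (φ a)).pow n).mul
        ((IsLocalization.map_units B s).map (algebraMap B B'))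
    refine ⟨⟨algebraMap A A' r, ⟨_, hu⟩⟩, ?_⟩
    show z * ψ (algebraMap A A' (a ^ n * s)) = ψ (algebraMap A A' r)
    rw [map_mul, map_mul, hψ, hψ, hψ, map_pow, ← mul_assoc]
    rw [show z * algebraMap B B' ((φ a) ^ n) = algebraMap B B' β from hβ, ← map_mul]
    exact congrArg _ hr
  · obtain ⟨⟨x₀, _, n, rfl⟩, hx⟩ := IsLocalization.surj (Submonoid.powers a) x
    obtain ⟨⟨y₀, _, m, rfl⟩, hy⟩ := IsLocalization.surj (Submonoid.powers a) y
    change ψ x = ψ y at e
    change x * algebraMap A A' (a ^ n) = algebraMap A A' x₀ at hx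
    change y * algebraMap A A' (a ^ m) = algebraMap A A' y₀ at hy
    have h1 : algebraMap B B' (φ (a ^ m * x₀)) = algebraMap B B' (φ (a ^ n * y₀)) := by
      rw [← hψ, ← hψ, map_mul (algebraMap A A'), map_mul (algebraMap A A'), ← hx, ← hy]
      simp only [map_mul, e]
      ring
    obtain ⟨⟨_, k, rfl⟩, hk⟩ := IsLocalization.exists_of_eq (M := Submonoid.powers (φ a)) h1
    have hk' : algebraMap A B (a ^ k * (a ^ m * x₀)) = algebraMap A B (a ^ k * (a ^ n * y₀)) := by
      show φ _ = φ _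
      simpa only [map_mul, map_pow] using hk
    obtain ⟨s, hs⟩ := IsLocalization.exists_of_eq (M := S) hk'
    have hu : IsUnit (ψ (algebraMap A A' (s * a ^ (k + n + m)))) := by
      rw [map_mul, map_mul, hψ, hψ, map_pow, map_pow]
      exact ((IsLocalization.map_units B s).map (algebraMap B B')).mul
        ((IsLocalization.Away.algebraMap_isUnit (φ a)).pow _)
    refine ⟨⟨_, hu⟩, ?_⟩
    show algebraMap A A' _ * x = algebraMap A A' _ * y
    have hs' := congrArg (algebraMap A A') hs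
    simp only [map_mul, map_pow] at hs' hx hy ⊢
    linear_combination (algebraMap A A' a ^ k * algebraMap A A' a ^ m * algebraMap A A' s.1) * hx -
      (algebraMap A A' a ^ k * algebraMap A A' a ^ n * algebraMap A A' s.1) * hy + hs'

variable {X Y : Scheme.{u}} {f : X ⟶ Y}

theorem exists_affine_nhd [IsNoetherian X] (hf : LocImm.IsLocImmersion f) (x : X) :
    ∃ V : Y.Opens, f x ∈ V ∧ IsAffineOpen V ∧ IsAffineOpen (f ⁻¹ᵁ V) ∧ LocImm.IsLocHom (f.app V).hom := by
  obtain ⟨U, V, hxV, e, hQ⟩ := hf.1 x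
  obtain ⟨O, hO, hOV⟩ := (isEmbedding hf).isInducing.isOpen_iff.1 V.1.2
  have hxO : f x ∈ O := by
    have : x ∈ (fun x => f x) ⁻¹' O := hOV ▸ hxV
    exact this
  obtain ⟨a, haO, hxa⟩ := U.2.exists_basicOpen_le (V := ⟨O, hO⟩ ⊓ U.1) ⟨f x, hxO, e hxV⟩ (e hxV)
  have hsub : f ⁻¹ᵁ Y.basicOpen a ≤ V.1 := fun z hz => by
    have : z ∈ (fun x => f x) ⁻¹' O := (haO hz).1
    rwa [hOV] at this
  have hpre : f ⁻¹ᵁ Y.basicOpen a = X.basicOpen (f.appLE U V e a) := by
    rw [Scheme.basicOpen_appLE, inf_eq_right.2 hsub]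
  refine ⟨_, hxa, U.2.basicOpen a, hpre ▸ V.2.basicOpen _, ?_⟩
  haveI := U.2.isLocalization_basicOpen a
  letI : Algebra Γ(X, V.1) Γ(X, f ⁻¹ᵁ Y.basicOpen a) := (X.presheaf.map (homOfLE hsub).op).hom.toAlgebra
  haveI : IsLocalization.Away ((f.appLE U V e).hom a) Γ(X, f ⁻¹ᵁ Y.basicOpen a) :=
    IsAffineOpen.isLocalization_of_eq_basicOpen V.2 _ (homOfLE hsub) hpre
  refine isLocHom_away a (f.appLE U V e).hom _ (fun z => ?_) hQ
  show (f.app (Y.basicOpen a)) (Y.presheaf.map (homOfLE (Y.basicOpen_le a)).op z) =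
    X.presheaf.map (homOfLE hsub).op (f.appLE U V e z)
  rw [← CommRingCat.comp_apply, ← CommRingCat.comp_apply]
  congr 2
  rw [Scheme.Hom.app_eq_appLE, Scheme.Hom.map_appLE, Scheme.Hom.appLE_map]

theorem isLocImmersion_of_affine_nhd
    (h : ∀ x : X, ∃ V : Y.Opens, f x ∈ V ∧ IsAffineOpen V ∧ IsAffineOpen (f ⁻¹ᵁ V) ∧ LocImm.IsLocHom (f.app V).hom) :
    LocImm.IsLocImmersion f := by
  refine ⟨fun x => ?_, fun x x' hxx => ?_⟩
  · obtain ⟨V, hxV, hV, hW, hQ⟩ := h x
    exact ⟨⟨V, hV⟩, ⟨_, hW⟩, hxV, le_rfl, by rwa [← Scheme.Hom.app_eq_appLE]⟩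
  · obtain ⟨V, hxV, hV, hW, hQ⟩ := h x
    have hx'V : f x' ∈ V := by
      have : f x = f x' := hxx
      rwa [← this]
    have hloc : IsEmbedding (Spec.map (f.app V)) := by
      algebraize [(f.app V).hom]
      obtain ⟨M, hM⟩ := hQ
      exact PrimeSpectrum.localization_comap_isEmbedding Γ(X, f ⁻¹ᵁ V) M
    have hc := chart f ⟨V, hV⟩ ⟨_, hW⟩ le_rfl
    rw [← Scheme.Hom.app_eq_appLE] at hc
    have hinj : Function.Injective ((f ⁻¹ᵁ V).ι ≫ f) := by
      rw [hc, Scheme.Hom.comp_base, Scheme.Hom.comp_base, TopCat.coe_comp, TopCat.coe_comp]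
      exact (hV.fromSpec.isOpenEmbedding.injective.comp hloc.injective).comp
        hW.isoSpec.hom.isOpenEmbedding.injective
    exact congrArg Subtype.val (@hinj ⟨x, hxV⟩ ⟨x', hx'V⟩ hxx)

/-- A closed set stable under generization in a Noetherian space is open. -/
theorem isOpen_of_isClosed_stableUnderGeneralization {T : Type*} [TopologicalSpace T] [NoetherianSpace T]
    [QuasiSober T] {Z : Set T} (hZ : IsClosed Z) (hg : StableUnderGeneralization Z) : IsOpen Z := by
  have : Zᶜ = ⋃ C ∈ {C ∈ irreducibleComponents T | Disjoint C Z}, C := by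
    refine Set.Subset.antisymm (fun y hy => ?_) (Set.iUnion₂_subset fun C hC => hC.2.subset_compl_right)
    refine Set.mem_iUnion₂.2 ⟨irreducibleComponent y, ⟨irreducibleComponent_mem_irreducibleComponents y,
      Set.disjoint_left.2 fun z hz hzZ => hy ?_⟩, mem_irreducibleComponent⟩
    obtain ⟨η, hη⟩ := QuasiSober.sober isIrreducible_irreducibleComponent (isClosed_irreducibleComponent (x := y))
    exact (hη.specializes mem_irreducibleComponent).mem_closed hZ (hg (hη.specializes hz) hzZ)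
  rw [← isClosed_compl_iff, this]
  exact ((NoetherianSpace.finite_irreducibleComponents).subset (Set.sep_subset _ _)).isClosed_biUnion
    fun C hC => isClosed_of_mem_irreducibleComponents C hC.1

theorem isOpenImmersion_of_isOpen_range [IsNoetherian X] (hf : LocImm.IsLocImmersion f)
    (ho : IsOpen (Set.range (fun x => f x))) : IsOpenImmersion f := by
  haveI := fun x => isIso_stalkMap hf.1 x
  exact IsOpenImmersion.of_isIso_stalkMap f ⟨isEmbedding hf, ho⟩

theorem isLocalizing_pullback_snd (hf : LocImm.IsLocalizing f) {Y' : Scheme.{u}} (g : Y' ⟶ Y) :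
    LocImm.IsLocalizing (pullback.snd f g) := by
  intro p
  obtain ⟨U, V, hxV, e, hQ⟩ := hf (pullback.fst f g p)
  have hp : g (pullback.snd f g p) = f (pullback.fst f g p) := by
    rw [← Scheme.Hom.comp_apply, ← pullback.condition, Scheme.Hom.comp_apply]
  obtain ⟨U', hU', hpU', hle⟩ := exists_isAffineOpen_mem_and_subset (x := pullback.snd f g p) (U := g ⁻¹ᵁ U.1)
    (show g (pullback.snd f g p) ∈ U.1 by rw [hp]; exact e hxV)
  have H := IsPullback.of_hasPullback f g
  let W := pullback.fst f g ⁻¹ᵁ V.1 ⊓ pullback.snd f g ⁻¹ᵁ U'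
  haveI : IsAffine _ := V.2
  haveI : IsAffine _ := U.2
  haveI : IsAffine _ := hU'
  have hW : IsAffineOpen W := .of_isIso (Scheme.Hom.isPullback_resLE H hle e (UY := W) rfl).isoPullback.hom
  refine ⟨⟨U', hU'⟩, ⟨W, hW⟩, ⟨hxV, hpU'⟩, inf_le_right, ?_⟩
  have hpo := (isIso_pushoutSection_iff H hle e (UY := W) rfl).1
    (isIso_pushoutSection_of_isAffineOpen H hle e rfl U.2 hU' V.2)
  algebraize [(f.appLE U V e).hom, (g.appLE U U' hle).hom,
    ((pullback.fst f g).appLE V W inf_le_left).hom, ((pullback.snd f g).appLE U' W inf_le_right).hom]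
  letI := ((g.appLE U U' hle) ≫ (pullback.snd f g).appLE U' W inf_le_right).hom.toAlgebra
  haveI : IsScalarTower Γ(Y, U.1) Γ(Y', U') Γ(pullback f g, W) := .of_algebraMap_eq' rfl
  haveI : IsScalarTower Γ(Y, U.1) Γ(X, V.1) Γ(pullback f g, W) := .of_algebraMap_eq' (by
    exact congrArg CommRingCat.Hom.hom hpo.w.symm)
  haveI : Algebra.IsPushout Γ(Y, U.1) Γ(Y', U') Γ(X, V.1) Γ(pullback f g, W) :=
    CommRingCat.isPushout_iff_isPushout.1 hpo.flip
  obtain ⟨S, hS⟩ := hQ
  exact ⟨_, (Algebra.isLocalization_iff_isPushout (T := Γ(Y', U')) S Γ(X, V.1)).2 inferInstance⟩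

end GrothLib.LocImm8
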