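import Groth.Prelude.Def_EssFT
import Groth.Agent.Lib.LocImm8.Affine
import Mathlib.AlgebraicGeometry.Morphisms.FiniteType

/-!
# Composition of localizing immersions with open immersions; finite type morphisms
-/

set_option autoImplicit false
set_option backward.isDefEq.respectTransparency false
set_option linter.style.haveILetI false

universe u

open CategoryTheory CategoryTheory.Limits AlgebraicGeometry TopologicalSpace

namespace GrothLib.LocImm8

variable {X Y Z : Scheme.{u}}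

theorem isLocHom_congr {A B A' B' : CommRingCat.{u}} (φ : A ⟶ B) (ψ : A' ⟶ B') (a : A ≅ A') (b : B ≅ B')
    (h : a.hom ≫ ψ = φ ≫ b.hom) (hφ : LocImm.IsLocHom φ.hom) : LocImm.IsLocHom ψ.hom := by
  letI := φ.hom.toAlgebra
  obtain ⟨M, hM⟩ := hφ
  letI := ψ.hom.toAlgebra
  have he : ∀ x, ψ (a.hom x) = b.hom (φ x) := fun x => congr($h x)
  refine ⟨(IsUnit.submonoid B').comap ψ.hom.toMonoidHom, ⟨fun t => t.2, fun z => ?_, fun {p q} e => ?_⟩⟩
  · obtain ⟨⟨r, t⟩, hr⟩ := IsLocalization.surj M (b.inv z)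
    refine ⟨⟨a.hom r, ⟨a.hom t.1, ?_⟩⟩, ?_⟩
    · show IsUnit (ψ (a.hom t.1))
      rw [he]
      exact (IsLocalization.map_units B t).map b.hom.hom
    · show z * ψ (a.hom t.1) = ψ (a.hom r)
      rw [he, he, ← show b.inv z * φ t.1 = φ r from hr, map_mul, Iso.inv_hom_id_apply]
  · change ψ p = ψ q at e
    obtain ⟨t, ht⟩ := IsLocalization.exists_of_eq (M := M) (x := a.inv p) (y := a.inv q)
      (show φ (a.inv p) = φ (a.inv q) from (ConcreteCategory.bijective_of_isIso b.hom).1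
        (by rw [← he, ← he, Iso.inv_hom_id_apply, Iso.inv_hom_id_apply, e]))
    refine ⟨⟨a.hom t.1, ?_⟩, ?_⟩
    · show IsUnit (ψ (a.hom t.1))
      rw [he]
      exact (IsLocalization.map_units B t).map b.hom.hom
    · have := congrArg a.hom ht
      rwa [map_mul, map_mul, Iso.inv_hom_id_apply, Iso.inv_hom_id_apply] at this

theorem isLocImmersion_comp_openImmersion [IsNoetherian X] {f : X ⟶ Y} (hf : LocImm.IsLocImmersion f)
    (j : Y ⟶ Z) [IsOpenImmersion j] : LocImm.IsLocImmersion (f ≫ j) := by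
  refine isLocImmersion_of_affine_nhd fun x => ?_
  obtain ⟨V, hxV, hV, hW, hQ⟩ := exists_affine_nhd hf x
  have hpre : (f ≫ j) ⁻¹ᵁ (j ''ᵁ V) = f ⁻¹ᵁ V := by
    rw [Scheme.Hom.comp_preimage, Scheme.Hom.preimage_image_eq]
  refine ⟨j ''ᵁ V, ⟨f x, hxV, rfl⟩, hV.image_of_isOpenImmersion j, hpre ▸ hW, ?_⟩
  refine isLocHom_congr (f.app V) _ (j.appIso V).symm (X.presheaf.mapIso (eqToIso hpre).op) ?_ hQ
  simp only [Iso.symm_hom, Functor.mapIso_hom, Iso.op_hom, eqToIso.hom, Scheme.Hom.app_eq_appLE,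
    Scheme.Hom.appLE_map]
  rw [Iso.inv_comp_eq, Scheme.Hom.appIso_hom', Scheme.Hom.appLE_comp_appLE]

theorem isLocImmersion_of_comp_openImmersion [IsNoetherian X] {f : X ⟶ Y} (j : Y ⟶ Z) [IsOpenImmersion j]
    (hf : LocImm.IsLocImmersion (f ≫ j)) : LocImm.IsLocImmersion f := by
  refine isLocImmersion_of_affine_nhd fun x => ?_
  obtain ⟨V, hxV, hV, hW, hQ⟩ := exists_affine_nhd hf x
  obtain ⟨a, haV, hxa⟩ := hV.exists_basicOpen_le (V := V ⊓ j.opensRange) ⟨(f ≫ j) x, hxV, f x, rfl⟩ hxV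
  let W := j ⁻¹ᵁ Z.basicOpen a
  have hW0 : j ''ᵁ W = Z.basicOpen a := by
    rw [Scheme.Hom.image_preimage_eq_opensRange_inf, inf_eq_right]
    exact haV.trans inf_le_right
  refine ⟨W, hxa, ?_, ?_, ?_⟩
  · rw [← j.isAffineOpen_iff_of_isOpenImmersion, hW0]
    exact hV.basicOpen a
  · show IsAffineOpen ((f ≫ j) ⁻¹ᵁ Z.basicOpen a)
    rw [Scheme.preimage_basicOpen]
    exact hW.basicOpen _
  · haveI := hV.isLocalization_basicOpen a
    let c := (f ≫ j).app V a
    have hpre : (f ≫ j) ⁻¹ᵁ Z.basicOpen a = X.basicOpen c := Scheme.preimage_basicOpen _ a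
    letI : Algebra Γ(X, (f ≫ j) ⁻¹ᵁ V) Γ(X, (f ≫ j) ⁻¹ᵁ Z.basicOpen a) :=
      (X.presheaf.map (homOfLE ((f ≫ j).preimage_mono (Z.basicOpen_le a))).op).hom.toAlgebra
    haveI : IsLocalization.Away (((f ≫ j).app V).hom a) Γ(X, (f ≫ j) ⁻¹ᵁ Z.basicOpen a) :=
      IsAffineOpen.isLocalization_of_eq_basicOpen hW _ (homOfLE ((f ≫ j).preimage_mono (Z.basicOpen_le a))) hpre
    have h1 : LocImm.IsLocHom ((f ≫ j).app (Z.basicOpen a)).hom :=
      isLocHom_away a ((f ≫ j).app V).hom _ (fun z => congr($((f ≫ j).naturality (homOfLE (Z.basicOpen_le a)).op) z)) hQ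
    haveI : IsIso (j.app (Z.basicOpen a)) := j.isIso_app _ (haV.trans inf_le_right)
    refine isLocHom_congr ((f ≫ j).app (Z.basicOpen a)) (f.app W) (asIso (j.app (Z.basicOpen a))) (Iso.refl _) ?_ h1
    simp [W]

theorem locallyEssFiniteType_of_locallyOfFiniteType (f : X ⟶ Y) [LocallyOfFiniteType f] :
    EssFT.LocallyEssFiniteType f := by
  refine ⟨fun x => ?_⟩
  obtain ⟨U, hU, hxU, -⟩ := exists_isAffineOpen_mem_and_subset (x := f x) (U := ⊤) trivial
  obtain ⟨V, hV, hxV, hVU⟩ := exists_isAffineOpen_mem_and_subset (x := x) (U := f ⁻¹ᵁ U) hxU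
  refine ⟨⟨U, hU⟩, ⟨V, hV⟩, hxV, hVU, ?_⟩
  have h := f.finiteType_appLE hU hV hVU
  algebraize [(f.appLE U V hVU).hom]
  exact Algebra.EssFiniteType.of_finiteType _ _

theorem locallyEssFiniteType_of_isLocalizing {f : X ⟶ Y} (hf : LocImm.IsLocalizing f) :
    EssFT.LocallyEssFiniteType f := by
  refine ⟨fun x => ?_⟩
  obtain ⟨U, V, hxV, e, hQ⟩ := hf x
  refine ⟨U, V, hxV, e, ?_⟩
  algebraize [(f.appLE U V e).hom]
  obtain ⟨M, hM⟩ := hQ
  exact Algebra.EssFiniteType.of_isLocalization _ M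

theorem locallyEssFiniteType_comp (f : X ⟶ Y) (g : Y ⟶ Z) [EssFT.LocallyEssFiniteType f]
    [EssFT.LocallyEssFiniteType g] : EssFT.LocallyEssFiniteType (f ≫ g) :=
  haveI : MorphismProperty.IsStableUnderComposition @EssFT.LocallyEssFiniteType :=
    HasRingHomProperty.stableUnderComposition (RingHom.locally_stableUnderComposition
      RingHom.EssFiniteType.respectsIso RingHom.EssFiniteType.isStableUnderBaseChange.localizationPreserves
      RingHom.EssFiniteType.stableUnderComposition)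
  MorphismProperty.comp_mem _ f g inferInstance inferInstance

end GrothLib.LocImm8

namespace GrothLib.LocImm8

variable {X Y : Scheme.{u}}

/-- An open immersion is a localizing immersion. -/
theorem isLocImmersion_of_openImmersion (j : X ⟶ Y) [IsOpenImmersion j] : LocImm.IsLocImmersion j := by
  refine isLocImmersion_of_affine_nhd fun x => ?_
  obtain ⟨W, hW, hxW, -⟩ := exists_isAffineOpen_mem_and_subset (x := x) (U := ⊤) trivial
  have hpre : j ⁻¹ᵁ (j ''ᵁ W) = W := j.preimage_image_eq W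
  refine ⟨j ''ᵁ W, ⟨x, hxW, rfl⟩, hW.image_of_isOpenImmersion j, by rw [hpre]; exact hW, ?_⟩
  haveI : IsIso (j.app (j ''ᵁ W)) := j.isIso_app _ (j.image_le_opensRange W)
  letI := (j.app (j ''ᵁ W)).hom.toAlgebra
  have hb := ConcreteCategory.bijective_of_isIso (j.app (j ''ᵁ W))
  refine ⟨⊥, ⟨fun t => ?_, fun z => ?_, fun {p q} e => ⟨1, by rw [hb.1 e]⟩⟩⟩
  · rw [Submonoid.mem_bot.1 t.2, map_one]; exact isUnit_one
  · obtain ⟨r, hr⟩ := hb.2 z
    exact ⟨⟨r, 1⟩, by rw [Submonoid.coe_one, map_one, mul_one]; exact hr.symm⟩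

end GrothLib.LocImm8
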