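import Groth.Agent.Lib.LocImm8.Factor
import Groth.Agent.Lib.LocImm8.Compose
import Groth.Agent.Lib.SchLoc8.LocalIso

/-!
# Localizing immersions of one scheme into two: agreement near the image
-/

set_option autoImplicit false
set_option backward.isDefEq.respectTransparency false
set_option linter.style.haveILetI false

universe u

open CategoryTheory CategoryTheory.Limits AlgebraicGeometry TopologicalSpace

namespace GrothLib.LocImm8

variable {U X Y Z : Scheme.{u}}

/-- Composite of localizing immersions. -/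
theorem isLocImmersion_comp [IsNoetherian X] [IsNoetherian Y] {f : X ⟶ Y} {g : Y ⟶ Z}
    (hf : LocImm.IsLocImmersion f) (hg : LocImm.IsLocImmersion g) : LocImm.IsLocImmersion (f ≫ g) := by
  refine ⟨fun x => ?_, hg.2.comp hf.2⟩
  obtain ⟨V, hxV, hV, hV', hQ⟩ := exists_affine_nhd hg (f x)
  obtain ⟨W, hxW, hW, hW', hR⟩ := exists_affine_nhd hf x
  obtain ⟨r, r', e, hr⟩ := exists_basicOpen_le_affine_inter hV' hW (f x) ⟨hxV, hxW⟩
  have hQ' := hQ
  algebraize [(g.app V).hom]
  obtain ⟨M, hM⟩ := hQ'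
  obtain ⟨⟨a, t⟩, hat⟩ := IsLocalization.surj M r
  change r * g.app V t.1 = g.app V a at hat
  have hbo : Y.basicOpen (g.app V a) = Y.basicOpen r := by
    rw [← hat, Scheme.basicOpen_mul, Y.basicOpen_of_isUnit (show IsUnit (g.app V t.1) from IsLocalization.map_units _ t),
      inf_eq_left]
    exact Y.basicOpen_le r
  have hpre : g ⁻¹ᵁ Z.basicOpen a = Y.basicOpen r := by rw [Scheme.preimage_basicOpen, hbo]
  haveI := hV.isLocalization_basicOpen a
  haveI := hW.isLocalization_basicOpen r'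
  let A := Z.basicOpen a
  let B := Y.basicOpen r'
  have hAB : B ≤ g ⁻¹ᵁ A := (hpre.trans e).ge
  have hBW : f ⁻¹ᵁ B = X.basicOpen (f.app W r') := Scheme.preimage_basicOpen f r'
  have h1 : LocImm.IsLocHom (g.appLE A B hAB).hom := by
    haveI : IsLocalization.Away ((g.app V).hom a) Γ(Y, Y.basicOpen (g.app V a)) := hV'.isLocalization_basicOpen _
    have hh := isLocHom_away a (g.app V).hom
      (g.appLE A (Y.basicOpen (g.app V a)) (Scheme.preimage_basicOpen g a).ge).hom
      (fun z => congr($(show Z.presheaf.map (homOfLE (Z.basicOpen_le a)).op ≫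
          g.appLE A (Y.basicOpen (g.app V a)) (Scheme.preimage_basicOpen g a).ge =
          g.app V ≫ Y.presheaf.map (homOfLE (Y.basicOpen_le (g.app V a))).op by
        exact Scheme.Hom.map_appLE _ _ _) z)) hQ
    have eB : Y.basicOpen (g.app V a) = B := hbo.trans e
    refine isLocHom_congr (g.appLE A (Y.basicOpen (g.app V a)) _) _ (Iso.refl _)
      (Y.presheaf.mapIso (eqToIso eB.symm).op) ?_ hh
    simp only [Iso.refl_hom, Category.id_comp, Functor.mapIso_hom, Iso.op_hom, eqToIso.hom, Scheme.Hom.appLE_map]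
  have h2 : LocImm.IsLocHom (f.app B).hom := by
    letI : Algebra Γ(X, f ⁻¹ᵁ W) Γ(X, f ⁻¹ᵁ B) :=
      (X.presheaf.map (homOfLE (f.preimage_mono (Y.basicOpen_le r'))).op).hom.toAlgebra
    haveI : IsLocalization.Away ((f.app W).hom r') Γ(X, f ⁻¹ᵁ B) :=
      IsAffineOpen.isLocalization_of_eq_basicOpen hW' _ (homOfLE (f.preimage_mono (Y.basicOpen_le r'))) hBW
    exact isLocHom_away r' (f.app W).hom _ (fun z => congr($(f.naturality (homOfLE (Y.basicOpen_le r')).op) z)) hR
  refine ⟨⟨A, hV.basicOpen a⟩, ⟨f ⁻¹ᵁ B, hBW ▸ hW'.basicOpen _⟩, ?_, ?_, ?_⟩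
  · show f x ∈ B
    show f x ∈ Y.basicOpen r'
    rw [← e]
    exact hr
  · rw [Scheme.Hom.comp_preimage]
    exact f.preimage_mono hAB
  · have hc : (f ≫ g).appLE A (f ⁻¹ᵁ B) (by rw [Scheme.Hom.comp_preimage]; exact f.preimage_mono hAB) =
        g.appLE A B hAB ≫ f.app B := by
      rw [Scheme.Hom.app_eq_appLE, Scheme.Hom.appLE_comp_appLE]
    rw [hc]
    letI := (g.appLE A B hAB).hom.toAlgebra
    obtain ⟨S₁, hS₁⟩ := h1
    letI := (f.app B).hom.toAlgebra
    obtain ⟨S₂, hS₂⟩ := h2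
    letI := (g.appLE A B hAB ≫ f.app B).hom.toAlgebra
    haveI : IsScalarTower Γ(Z, A) Γ(Y, B) Γ(X, f ⁻¹ᵁ B) := .of_algebraMap_eq' rfl
    exact ⟨_, IsLocalization.localization_localization_isLocalization S₁ S₂ _⟩

/-- A morphism locally of finite type which is compatible with localizing immersions of a scheme on both sides is an
open immersion near the image. -/
theorem exists_isOpenImmersion_near [IsNoetherian U] [IsNoetherian Y] [IsLocallyNoetherian Z] {k : U ⟶ Y}
    (g : Y ⟶ Z) [IsSeparated g] [LocallyOfFiniteType g] (hk : LocImm.IsLocImmersion k)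
    (hkg : LocImm.IsLocImmersion (k ≫ g)) :
    ∃ L : Y.Opens, Set.range k ⊆ L ∧ IsOpenImmersion (L.ι ≫ g) := by
  let L₀ : Y.Opens := ⟨{y | SchLoc.IsLocalIsoAt g y}, isOpen_iff_forall_mem_open.2 fun y hy => by
    obtain ⟨O, hyO, hO⟩ := hy
    exact ⟨O, fun z hz => ⟨O, hz, hO⟩, O.2, hyO⟩⟩
  have hk₀ : ∀ u, k u ∈ L₀ := fun u => by
    haveI := isIso_stalkMap hk.1 u
    haveI : IsIso (g.stalkMap (k u) ≫ k.stalkMap u) := by
      have := isIso_stalkMap hkg.1 u
      rwa [Scheme.Hom.stalkMap_comp] at this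
    haveI : IsIso (g.stalkMap (k u)) := IsIso.of_isIso_comp_right (g.stalkMap (k u)) (k.stalkMap u)
    exact SchLoc8.isLocalIsoAt_of_isIso_stalkMap g (k u)
  let R : Set (irreducibleComponents Y) := {C | Disjoint (C : Set Y) (Set.range k)}
  haveI : Finite (irreducibleComponents Y) := NoetherianSpace.finite_irreducibleComponents.to_subtype
  let L : Y.Opens := L₀ ⊓ ⟨(⋃ C ∈ R, (C : Set Y))ᶜ,
    (R.toFinite.isClosed_biUnion fun C _ => isClosed_of_mem_irreducibleComponents C.1 C.2).isOpen_compl⟩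
  refine ⟨L, ?_, ?_⟩
  · rintro _ ⟨u, rfl⟩
    refine ⟨hk₀ u, ?_⟩
    intro h
    obtain ⟨C, hC, hz⟩ := Set.mem_iUnion₂.1 h
    exact Set.disjoint_left.1 hC hz ⟨u, rfl⟩
  haveI : AlgebraicGeometry.IsNoetherian L.toScheme := by
    haveI : IsLocallyNoetherian L.toScheme := isLocallyNoetherian_of_isOpenImmersion L.ι
    haveI : CompactSpace L.toScheme := isCompact_iff_compactSpace.1 (NoetherianSpace.isCompact _)
    exact ⟨⟩
  have hcl : ∀ y : L.toScheme, ∃ O : L.toScheme.Opens, y ∈ O ∧ IsOpenImmersion (O.ι ≫ L.ι ≫ g) := by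
    rintro ⟨y, hy⟩
    obtain ⟨O, hyO, hO⟩ := hy.1
    refine ⟨L.ι ⁻¹ᵁ O, hyO, ?_⟩
    have : (L.ι ⁻¹ᵁ O).ι ≫ L.ι ≫ g = L.ι.resLE O (L.ι ⁻¹ᵁ O) le_rfl ≫ (O.ι ≫ g) := by
      rw [Scheme.Hom.resLE_comp_ι_assoc]
    rw [this]
    haveI : IsOpenImmersion (O.ι ≫ g) := hO
    haveI : IsOpenImmersion (L.ι.resLE O (L.ι ⁻¹ᵁ O) le_rfl ≫ O.ι) := by
      rw [Scheme.Hom.resLE_comp_ι]; infer_instance
    haveI : IsOpenImmersion (L.ι.resLE O (L.ι ⁻¹ᵁ O) le_rfl) := IsOpenImmersion.of_comp _ O.ι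
    infer_instance
  have hmax : ∀ y : L.toScheme, (∀ y', y' ⤳ y → y' = y) → y.1 ∈ Set.range k := by
    intro y hy
    obtain ⟨η, hη⟩ := QuasiSober.sober isIrreducible_irreducibleComponent (isClosed_irreducibleComponent (x := y.1))
    have hsp : η ⤳ y.1 := hη.specializes mem_irreducibleComponent
    have hηL : η ∈ L := hsp.mem_open L.2 y.2
    have : (⟨η, hηL⟩ : L.toScheme) = y := hy _ ((subtype_specializes_iff _ _).2 hsp)
    have e1 : η = y.1 := congrArg Subtype.val this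
    have hy1 : IsGenericPoint y.1 (irreducibleComponent y.1) := e1 ▸ hη
    by_contra hyk
    refine y.2.2 ?_
    refine Set.mem_iUnion₂.2 ⟨⟨_, irreducibleComponent_mem_irreducibleComponents y.1⟩,
      Set.disjoint_left.2 fun z hz hzk => hyk ?_, mem_irreducibleComponent⟩
    exact range_stableUnderGeneralization hk.1 (hy1.specializes hz) hzk
  haveI hst : ∀ y : L.toScheme, IsIso ((L.ι ≫ g).stalkMap y) := fun y => by
    obtain ⟨O, hyO, hO⟩ := hcl y
    exact SchLoc8.isIso_stalkMap_of_isLocalIsoAt ⟨O, hyO, hO⟩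
  haveI : Flat (L.ι ≫ g) := Flat.of_stalkMap _ fun y =>
    RingHom.Flat.of_bijective (ConcreteCategory.bijective_of_isIso _)
  haveI : SurjectiveOnStalks (L.ι ≫ g) := ⟨fun y => (ConcreteCategory.bijective_of_isIso _).2⟩
  have hinj : Function.Injective (L.ι ≫ g) := by
    intro a b hab
    obtain ⟨z, hz1, hz2⟩ := Scheme.Pullback.exists_preimage_pullback (f := L.ι ≫ g) (g := L.ι ≫ g) a b hab
    haveI : Flat (pullback.fst (L.ι ≫ g) (L.ι ≫ g)) := inferInstance
    haveI : Flat (pullback.snd (L.ι ≫ g) (L.ι ≫ g)) := inferInstance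
    obtain ⟨η, hη⟩ := QuasiSober.sober isIrreducible_irreducibleComponent (isClosed_irreducibleComponent (x := z))
    have hmaxη : ∀ w, w ⤳ η → w = η := by
      intro w hw
      have hsub : irreducibleComponent z ⊆ closure {w} := by
        rw [← hη.def]
        exact closure_minimal (Set.singleton_subset_iff.2 (specializes_iff_mem_closure.1 hw)) isClosed_closure
      have he := (irreducibleComponent_mem_irreducibleComponents z).2 isIrreducible_singleton.closure hsub
      exact (hw.antisymm (hη.specializes (he (subset_closure rfl)))).eq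
    have himg : ∀ (p : pullback (L.ι ≫ g) (L.ι ≫ g) ⟶ L.toScheme) [Flat p], (p η).1 ∈ Set.range k := by
      intro p _
      refine hmax _ fun c hc => ?_
      obtain ⟨w, hw, e⟩ := Flat.generalizingMap (f := p) hc
      rw [← e, hmaxη w hw]
    obtain ⟨u, hu⟩ := himg (pullback.fst (L.ι ≫ g) (L.ι ≫ g))
    obtain ⟨v, hv⟩ := himg (pullback.snd (L.ι ≫ g) (L.ι ≫ g))
    have huv : u = v := hkg.2 (by
      show g (k u) = g (k v)
      rw [hu, hv]
      show (L.ι ≫ g) (pullback.fst (L.ι ≫ g) (L.ι ≫ g) η) = (L.ι ≫ g) (pullback.snd (L.ι ≫ g) (L.ι ≫ g) η)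
      rw [← Scheme.Hom.comp_apply (pullback.fst _ _), pullback.condition, Scheme.Hom.comp_apply])
    have hp : pullback.fst (L.ι ≫ g) (L.ι ≫ g) η = pullback.snd (L.ι ≫ g) (L.ι ≫ g) η :=
      Subtype.ext (hu.symm.trans ((congrArg k huv).trans hv))
    have hd : pullback.diagonal (L.ι ≫ g) (pullback.fst (L.ι ≫ g) (L.ι ≫ g) η) = η := by
      apply (SurjectiveOnStalks.isEmbedding_pullback (L.ι ≫ g) (L.ι ≫ g)).injective
      show (pullback.fst (L.ι ≫ g) (L.ι ≫ g) _, pullback.snd (L.ι ≫ g) (L.ι ≫ g) _) = _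
      rw [← Scheme.Hom.comp_apply (pullback.diagonal _), ← Scheme.Hom.comp_apply (pullback.diagonal _),
        pullback.diagonal_fst, pullback.diagonal_snd]
      exact congrArg (Prod.mk _) hp
    have hc : IsClosed (Set.range (pullback.diagonal (L.ι ≫ g))) :=
      (pullback.diagonal (L.ι ≫ g)).isClosedEmbedding.isClosed_range
    obtain ⟨c, hc'⟩ := (hη.specializes mem_irreducibleComponent).mem_closed hc ⟨_, hd⟩
    rw [← hz1, ← hz2, ← hc', ← Scheme.Hom.comp_apply, ← Scheme.Hom.comp_apply, pullback.diagonal_fst,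
      pullback.diagonal_snd]
  have hopen : IsOpenMap (L.ι ≫ g) := by
    intro T hT
    rw [isOpen_iff_forall_mem_open]
    rintro _ ⟨y, hy, rfl⟩
    obtain ⟨O, hyO, hO⟩ := hcl y
    refine ⟨(O.ι ≫ L.ι ≫ g) '' (O.ι ⁻¹' T), ?_, (O.ι ≫ L.ι ≫ g).isOpenEmbedding.isOpenMap _ (hT.preimage O.ι.continuous),
      ⟨⟨y, hyO⟩, hy, rfl⟩⟩
    rintro _ ⟨w, hw, rfl⟩
    exact ⟨_, hw, rfl⟩
  exact IsOpenImmersion.of_isIso_stalkMap _
    (Topology.IsOpenEmbedding.of_continuous_injective_isOpenMap (L.ι ≫ g).continuous hinj hopen)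

end GrothLib.LocImm8
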