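import Groth.Prelude.Def_EssFT
import Groth.Agent.Lib.LocImm8.Affine
import Groth.Agent.Lib.Misc6.LiftClosed
import Groth.Agent.Lib.AbsApprox.RelMain
import Groth.Agent.Lib.AbsApprox.ClosedProps
import Mathlib.AlgebraicGeometry.AffineTransitionLimit
import Mathlib.AlgebraicGeometry.Morphisms.SchemeTheoreticallyDominant

/-!
# Essentially finite type morphisms factor through localizing immersions
-/

set_option autoImplicit false
set_option backward.isDefEq.respectTransparency false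
set_option linter.style.haveILetI false

universe u

open CategoryTheory CategoryTheory.Limits AlgebraicGeometry TopologicalSpace Opposite

namespace GrothLib.LocImm8

/-- A subalgebra containing essential generators has the big algebra as localization. -/
theorem isLocHom_of_essFiniteType {A C B : Type u} [CommRing A] [CommRing C] [CommRing B] [Algebra A B]
    [Algebra.EssFiniteType A B] (α : A →+* C) (φ : C →+* B) (hα : φ.comp α = algebraMap A B)
    (hφ : Function.Injective φ) (hgen : ∀ b ∈ Algebra.EssFiniteType.finset A B, b ∈ φ.range) :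
    LocImm.IsLocHom φ := by
  letI := φ.toAlgebra
  let R₀ : Subalgebra A B := { φ.range with algebraMap_mem' := fun a => ⟨α a, RingHom.congr_fun hα a⟩ }
  have hle : Algebra.EssFiniteType.subalgebra A B ≤ R₀ := Algebra.adjoin_le fun b hb => hgen b hb
  refine ⟨(IsUnit.submonoid B).comap φ.toMonoidHom, ⟨fun t => t.2, fun z => ?_, fun {p q} e => ⟨1, by rw [hφ e]⟩⟩⟩
  obtain ⟨⟨r, s⟩, hrs⟩ := IsLocalization.surj (Algebra.EssFiniteType.submonoid A B) z
  obtain ⟨r', hr'⟩ := hle r.2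
  obtain ⟨s', hs'⟩ := hle s.1.2
  refine ⟨⟨r', ⟨s', ?_⟩⟩, ?_⟩
  · show IsUnit (φ s')
    rw [hs']
    exact IsLocalization.map_units B s
  · show z * φ s' = φ r'
    rw [hr', hs']
    exact hrs

variable {I : Type u} [SmallCategory I] [IsCofiltered I] (D : I ⥤ Scheme.{u}) (c : Cone D) (hc : IsLimit c)
  [∀ (i j : I) (a : i ⟶ j), IsAffineHom (D.map a)]

/-- Over a stage, an affine open of the limit descends with a section. -/
theorem exists_section_stage {i : I} (W : (D.obj i).Opens) (hW : IsAffineOpen W) (s : Γ(c.pt, c.π.app i ⁻¹ᵁ W))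
    (hc : IsLimit c) :
    ∃ (j : I) (a : j ⟶ i) (t : Γ(D.obj j, D.map a ⁻¹ᵁ W)),
      (c.π.app j).appLE (D.map a ⁻¹ᵁ W) (c.π.app i ⁻¹ᵁ W)
        (by rw [← Scheme.Hom.comp_preimage, c.w]) t = s := by
  haveI : ∀ {i j : I} (a : i ⟶ j), IsAffineHom (D.map a) := fun {i j} a => inferInstance
  haveI : ∀ j : Over i, IsAffine ((opensDiagram D i W).obj j) := fun j => hW.preimage (D.map j.hom)
  obtain ⟨j, t, ht⟩ := exists_appTop_π_eq_of_isAffine_of_isLimit _ _ (isLimitOpensCone D c hc i W)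
    ((c.π.app i ⁻¹ᵁ W).topIso.inv s)
  refine ⟨j.left, j.hom, (D.map j.hom ⁻¹ᵁ W).topIso.hom t, ?_⟩
  have e : D.map j.hom ⁻¹ᵁ W = D.map j.hom ⁻¹ᵁ W := rfl
  change ((c.π.app j.left).resLE (D.map j.hom ⁻¹ᵁ W) (c.π.app i ⁻¹ᵁ W) _).appTop t = _ at ht
  rw [Scheme.Hom.appTop, Scheme.Hom.resLE_app_top] at ht
  have h := congrArg (c.π.app i ⁻¹ᵁ W).topIso.hom ht
  simp only [CommRingCat.comp_apply] at h
  erw [Iso.inv_hom_id_apply, Iso.inv_hom_id_apply] at h
  exact h

variable {X S : Scheme.{u}}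

/-- A stage is good for a chart. -/
def GoodAt (h : ∀ j, D.obj j ⟶ S) (U : S.Opens) (V : c.pt.Opens) (T : Finset Γ(c.pt, V)) (j : I) : Prop :=
  ∃ (W : (D.obj j).Opens) (_ : IsAffineOpen W) (_ : W ≤ h j ⁻¹ᵁ U) (e : c.π.app j ⁻¹ᵁ W = V),
    ∀ b ∈ T, b ∈ ((c.π.app j).appLE W V e.ge).hom.range

variable {D c}

theorem GoodAt.of_hom {h : ∀ j, D.obj j ⟶ S} (hh : ∀ {i j} (a : i ⟶ j), D.map a ≫ h j = h i) {U : S.Opens}
    {V : c.pt.Opens} {T : Finset Γ(c.pt, V)} {j k : I} (a : k ⟶ j) (hg : GoodAt D c h U V T j) :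
    GoodAt D c h U V T k := by
  obtain ⟨W, hW, hWU, e, hT⟩ := hg
  refine ⟨D.map a ⁻¹ᵁ W, hW.preimage _, ?_, ?_, fun b hb => ?_⟩
  · rw [← hh a, Scheme.Hom.comp_preimage]
    exact Scheme.Hom.preimage_mono _ hWU
  · rw [← Scheme.Hom.comp_preimage, c.w, e]
  · obtain ⟨t, ht⟩ := hT b hb
    refine ⟨(D.map a).app W t, ?_⟩
    rw [← ht]
    show ((D.map a).app W ≫ (c.π.app k).appLE _ V _) t = (c.π.app j).appLE W V _ t
    congr 2
    rw [Scheme.Hom.app_eq_appLE, Scheme.Hom.appLE_comp_appLE]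
    simp only [c.w]

theorem exists_goodAt (hc : IsLimit c) [∀ i, QuasiSeparatedSpace (D.obj i)] [∀ i, CompactSpace (D.obj i)]
    {h : ∀ j, D.obj j ⟶ S} [∀ j, QuasiCompact (h j)] (hh : ∀ {i j} (a : i ⟶ j), D.map a ≫ h j = h i)
    {f : c.pt ⟶ S} (hf : ∀ j, c.π.app j ≫ h j = f) {U : S.Opens} (hU : IsAffineOpen U)
    {V : c.pt.Opens} (hV : IsAffineOpen V) (hVU : V ≤ f ⁻¹ᵁ U) (T : Finset Γ(c.pt, V)) :
    ∃ j, GoodAt D c h U V T j := by
  classical
  haveI : ∀ {i j : I} (a : i ⟶ j), IsAffineHom (D.map a) := fun {i j} a => inferInstance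
  induction T using Finset.induction with
  | empty =>
    obtain ⟨i, W, hW, hWV⟩ := exists_isAffineOpen_preimage_eq D c hc V hV
    have hk : IsCompact ((W ⊓ h i ⁻¹ᵁ U : (D.obj i).Opens) : Set (D.obj i)) :=
      QuasiSeparatedSpace.inter_isCompact _ _ W.2 hW.isCompact (h i ⁻¹ᵁ U).2
        ((h i).isCompact_preimage hU.isCompact)
    obtain ⟨j, a, ha⟩ := exists_map_preimage_eq_map_preimage D c hc hW.isCompact hk (by
      rw [Scheme.Hom.preimage_inf, hWV, ← Scheme.Hom.comp_preimage, hf, inf_eq_left.2 hVU])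
    refine ⟨j, D.map a ⁻¹ᵁ W, hW.preimage _, ?_, ?_, by simp⟩
    · rw [ha, ← hh a, Scheme.Hom.comp_preimage]
      exact Scheme.Hom.preimage_mono _ inf_le_right
    · rw [← Scheme.Hom.comp_preimage, c.w, hWV]
  | insert b T hb ih =>
    obtain ⟨i, W, hW, hWU, e, hT⟩ := ih
    obtain ⟨j, a, t, ht⟩ := exists_section_stage D c W hW (c.pt.presheaf.map (eqToHom e).op b) hc
    have hg := GoodAt.of_hom hh a ⟨W, hW, hWU, e, hT⟩
    refine ⟨j, D.map a ⁻¹ᵁ W, hW.preimage _, ?_, ?_, fun x hx => ?_⟩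
    · rw [← hh a, Scheme.Hom.comp_preimage]
      exact Scheme.Hom.preimage_mono _ hWU
    · rw [← Scheme.Hom.comp_preimage, c.w, e]
    · rcases Finset.mem_insert.1 hx with rfl | hx
      · refine ⟨t, ?_⟩
        have := congrArg (c.pt.presheaf.map (eqToHom e.symm).op) ht
        refine Eq.trans ?_ (this.trans ?_)
        · have he : c.π.app i ⁻¹ᵁ W ≤ c.π.app j ⁻¹ᵁ (D.map a ⁻¹ᵁ W) := by
            rw [← Scheme.Hom.comp_preimage, c.w]
          exact (congr($(Scheme.Hom.appLE_map (c.π.app j) he (eqToHom e.symm).op) t)).symm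
        · rw [← CommRingCat.comp_apply, ← Functor.map_comp, ← op_comp, eqToHom_trans, eqToHom_refl, op_id,
            CategoryTheory.Functor.map_id]
          rfl
      · obtain ⟨t', ht'⟩ := hT x hx
        refine ⟨(D.map a).app W t', ?_⟩
        rw [← ht']
        show ((D.map a).app W ≫ (c.π.app j).appLE _ V _) t' = (c.π.app i).appLE W V _ t'
        congr 2
        rw [Scheme.Hom.app_eq_appLE, Scheme.Hom.appLE_comp_appLE]
        simp only [c.w]

/-- Relative to a limit of schemes with affine transition morphisms: for an open piece `j : X ⟶ c.pt` of the limit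
essentially of finite type over the base, the maps to the scheme-theoretic images in the stages are eventually
localizing immersions. -/
theorem exists_stage_isLocImmersion [CompactSpace X] (hc : IsLimit c) [∀ i, QuasiSeparatedSpace (D.obj i)]
    [∀ i, CompactSpace (D.obj i)] [∀ i, IsAffineHom (c.π.app i)]
    {h : ∀ j, D.obj j ⟶ S} [∀ j, QuasiCompact (h j)] (hh : ∀ {i j} (a : i ⟶ j), D.map a ≫ h j = h i)
    {f : c.pt ⟶ S} (hf : ∀ j, c.π.app j ≫ h j = f) (j : X ⟶ c.pt) [IsOpenImmersion j]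
    [EssFT.LocallyEssFiniteType (j ≫ f)] (k₀ : I) :
    ∃ (k : I) (_ : k ⟶ k₀), LocImm.IsLocImmersion (j ≫ (c.π.app k).toImage) := by
  classical
  choose U V hxV e hfin using EssFT.LocallyEssFiniteType.exists_appLE_essFiniteType (f := j ≫ f)
  obtain ⟨s, hs⟩ := isCompact_univ.elim_finite_subcover (fun x : X => ((V x).1 : Set X)) (fun x => (V x).1.2)
    fun x _ => Set.mem_iUnion.2 ⟨x, hxV x⟩
  have hVU : ∀ x, j ''ᵁ (V x).1 ≤ f ⁻¹ᵁ (U x).1 := fun x => by
    rintro _ ⟨y, hy, rfl⟩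
    exact e x hy
  choose jx hjx using fun x : s => exists_goodAt hc hh hf (U x.1).2 ((V x.1).2.image_of_isOpenImmersion j)
    (hVU x.1) ((hfin x.1).finset.image (j.appIso (V x.1).1).inv)
  obtain ⟨k, hk⟩ := IsCofiltered.inf_objs_exists (insert k₀ (Finset.univ.image jx))
  refine ⟨k, (hk (Finset.mem_insert_self _ _)).some, isLocImmersion_of_affine_nhd fun x => ?_⟩
  obtain ⟨x₀, hx₀, hxx⟩ := Set.mem_iUnion₂.1 (hs (Set.mem_univ x))
  obtain ⟨W, hW, hWU, heq, hT⟩ := GoodAt.of_hom hh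
    (hk (Finset.mem_insert_of_mem (Finset.mem_image.2 ⟨⟨x₀, hx₀⟩, Finset.mem_univ _, rfl⟩))).some (hjx ⟨x₀, hx₀⟩)
  let p := c.π.app k
  let i := j ≫ p.toImage
  let W' := p.imageι ⁻¹ᵁ W
  have hpre' : p.toImage ⁻¹ᵁ W' = j ''ᵁ (V x₀).1 := by
    rw [← Scheme.Hom.comp_preimage, Scheme.Hom.toImage_imageι]
    exact heq
  have hpre : i ⁻¹ᵁ W' = (V x₀).1 := by
    rw [Scheme.Hom.comp_preimage, hpre', Scheme.Hom.preimage_image_eq]
  refine ⟨W', ?_, hW.preimage _, hpre ▸ (V x₀).2, ?_⟩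
  · show x ∈ i ⁻¹ᵁ W'
    rw [hpre]
    exact hxx
  let ε : Γ(X, i ⁻¹ᵁ W') ⟶ Γ(X, (V x₀).1) := X.presheaf.map (eqToHom hpre.symm).op
  haveI : IsIso ε := inferInstance
  letI alg' : Algebra Γ(S, (U x₀).1) Γ(X, (V x₀).1) :=
    ((j ≫ f).appLE (U x₀).1 (V x₀).1 (e x₀)).hom.toAlgebra
  haveI : Algebra.EssFiniteType Γ(S, (U x₀).1) Γ(X, (V x₀).1) := hfin x₀
  have hgle : W' ≤ (p.imageι ≫ h k) ⁻¹ᵁ (U x₀).1 := by
    rw [Scheme.Hom.comp_preimage]
    exact Scheme.Hom.preimage_mono _ hWU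
  let φ : Γ(p.image, W') ⟶ Γ(X, (V x₀).1) := i.appLE W' (V x₀).1 hpre.ge
  have hφ : LocImm.IsLocHom φ.hom := by
    refine isLocHom_of_essFiniteType ((p.imageι ≫ h k).appLE (U x₀).1 W' hgle).hom φ.hom ?_ ?_ ?_
    · rw [← CommRingCat.hom_comp, Scheme.Hom.appLE_comp_appLE]
      show _ = ((j ≫ f).appLE (U x₀).1 (V x₀).1 (e x₀)).hom
      congr 1
      simp only [i, Category.assoc, Scheme.Hom.toImage_imageι_assoc]
      simp only [p, hf]
    · have h1 : φ = p.toImage.app W' ≫ j.appLE (p.toImage ⁻¹ᵁ W') (V x₀).1 hpre.ge := by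
        simp only [φ, i, Scheme.Hom.app_eq_appLE, Scheme.Hom.appLE_comp_appLE]
      haveI : IsIso (j.appLE (p.toImage ⁻¹ᵁ W') (V x₀).1 hpre.ge) := by
        have : ∀ (A : c.pt.Opens) (he : A = j ''ᵁ (V x₀).1) (hA : (V x₀).1 ≤ j ⁻¹ᵁ A),
            IsIso (j.appLE A (V x₀).1 hA) := by
          rintro A rfl hA
          rw [← Scheme.Hom.appIso_hom']
          infer_instance
        exact this _ hpre' _
      rw [h1, CommRingCat.hom_comp]
      exact ((ConcreteCategory.bijective_of_isIso (j.appLE (p.toImage ⁻¹ᵁ W') (V x₀).1 hpre.ge)).1).comp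
        (p.toImage_app_injective ⟨W, hW⟩)
    · intro b hb
      obtain ⟨t, ht⟩ := hT _ (Finset.mem_image_of_mem _ hb)
      refine ⟨p.imageι.app W t, ?_⟩
      have h2 := congrArg (j.appIso (V x₀).1).hom ht
      rw [Iso.inv_hom_id_apply] at h2
      rw [← h2]
      show (p.imageι.app W ≫ φ) t = (p.appLE W _ heq.ge ≫ (j.appIso (V x₀).1).hom) t
      congr 2
      rw [Scheme.Hom.app_eq_appLE, Scheme.Hom.appIso_hom', Scheme.Hom.appLE_comp_appLE,
        Scheme.Hom.appLE_comp_appLE]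
      simp only [i, Category.assoc, Scheme.Hom.toImage_imageι]
  have hε : φ = i.app W' ≫ ε := rfl
  algebraize [φ.hom]
  obtain ⟨M, hM⟩ := hφ
  letI : Algebra Γ(p.image, W') Γ(X, i ⁻¹ᵁ W') := (i.app W').hom.toAlgebra
  refine ⟨M, IsLocalization.isLocalization_of_algEquiv M (S := Γ(X, (V x₀).1))
    { (asIso ε).symm.commRingCatIsoToRingEquiv with
      commutes' := fun z => ?_ }⟩
  show (asIso ε).inv (φ z) = i.app W' z
  rw [hε, CommRingCat.comp_apply]
  exact (asIso ε).hom_inv_id_apply _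

omit I in
/-- A separated morphism essentially of finite type factors as a localizing immersion followed by a
separated morphism of finite type. -/
theorem exists_factor [IsNoetherian X] [IsNoetherian S] (f : X ⟶ S) [IsSeparated f]
    [EssFT.LocallyEssFiniteType f] :
    ∃ (Z : Scheme.{u}) (i : X ⟶ Z) (g : Z ⟶ S), IsNoetherian Z ∧ LocImm.IsLocImmersion i ∧ IsSeparated g ∧
      LocallyOfFiniteType g ∧ QuasiCompact g ∧ IsSchemeTheoreticallyDominant i ∧ i ≫ g = f := by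
  obtain ⟨J, _, _, _, D, π, hl, h1, h2, h3⟩ := AbsApprox.exists_rel_approx f
  let D' := D ⋙ Over.forget S
  let c : Cone D' := (Over.forget S).mapCone (Cone.mk (Over.mk f) π)
  have hc : IsLimit c := isLimitOfPreserves (Over.forget S) hl
  haveI : ∀ (i j : Jᵒᵖ) (a : i ⟶ j), IsAffineHom (D'.map a) := fun i j a => h2 i j a
  haveI : ∀ i, CompactSpace (D'.obj i) := fun i => (h1 i).2.2.2.1
  haveI : ∀ i, QuasiSeparatedSpace (D'.obj i) := fun i => (h1 i).2.2.2.2
  haveI : ∀ i, IsAffineHom (c.π.app i) := fun i => h3 i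
  let h : ∀ j, D'.obj j ⟶ S := fun j => (D.obj j).hom
  have hh : ∀ {i j : Jᵒᵖ} (a : i ⟶ j), D'.map a ≫ h j = h i := fun a => Over.w (D.map a)
  have hf : ∀ j, c.π.app j ≫ h j = f := fun j => Over.w (π.app j)
  haveI : ∀ j, QuasiCompact (h j) := fun j => (h1 j).2.1
  obtain ⟨i₀⟩ : Nonempty Jᵒᵖ := inferInstance
  haveI : IsSeparated (c.π.app i₀ ≫ (AbsApprox.overHom D).app i₀) := by
    show IsSeparated (c.π.app i₀ ≫ h i₀)
    rw [hf i₀]
    exact ‹IsSeparated f›
  obtain ⟨k₀, hk₀⟩ := GrothLib.LimDesc.eventually_isSeparated D' hc (AbsApprox.overHom D) i₀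
  let j : X ⟶ c.pt := 𝟙 X
  haveI : IsOpenImmersion j := inferInstanceAs (IsOpenImmersion (𝟙 X))
  haveI : EssFT.LocallyEssFiniteType (j ≫ f) := by
    show EssFT.LocallyEssFiniteType (𝟙 X ≫ f)
    rw [Category.id_comp]
    infer_instance
  obtain ⟨k, a, hk⟩ := exists_stage_isLocImmersion (S := S) (h := h) hc hh hf j k₀
  rw [show j ≫ (c.π.app k).toImage = (c.π.app k).toImage from Category.id_comp _] at hk
  haveI : IsSeparated (h k) := hk₀ k a
  haveI : LocallyOfFinitePresentation (h k) := (h1 k).1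
  let p := c.π.app k
  let g : p.image ⟶ S := p.imageι ≫ h k
  haveI : IsLocallyNoetherian p.image := LocallyOfFiniteType.isLocallyNoetherian g
  haveI : CompactSpace p.image := QuasiCompact.compactSpace_of_compactSpace g
  haveI := Misc6.isSchemeTheoreticallyDominant_toImage p
  exact ⟨p.image, p.toImage, g, ⟨⟩, hk, inferInstance, inferInstance, inferInstance, inferInstance,
    by rw [Scheme.Hom.toImage_imageι_assoc]; exact hf k⟩

end GrothLib.LocImm8
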