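import Groth.Prelude.Def_W4c5cptfessfintypeLocImm
import Mathlib.AlgebraicGeometry.Morphisms.Flat
import Mathlib.AlgebraicGeometry.Morphisms.SurjectiveOnStalks
import Mathlib.AlgebraicGeometry.Morphisms.Preimmersion
import Mathlib.AlgebraicGeometry.Morphisms.UniversallyOpen
import Mathlib.AlgebraicGeometry.Noetherian
import Mathlib.RingTheory.RingHom.FaithfullyFlat

/-!
# Localizing immersions: first properties
-/

set_option autoImplicit false
set_option linter.style.haveILetI false

universe u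

open CategoryTheory AlgebraicGeometry TopologicalSpace Topology

namespace GrothLib.LocImm8

variable {X Y : Scheme.{u}} {f : X ⟶ Y}

theorem chart (f : X ⟶ Y) (U : Y.affineOpens) (V : X.affineOpens) (e : V.1 ≤ f ⁻¹ᵁ U.1) :
    V.1.ι ≫ f = V.2.isoSpec.hom ≫ Spec.map (f.appLE U V e) ≫ U.2.fromSpec := by
  rw [IsAffineOpen.SpecMap_appLE_fromSpec f U.2 V.2 e, ← Category.assoc (V.2.isoSpec.hom),
    IsAffineOpen.fromSpec, Iso.hom_inv_id_assoc]

theorem flat (hf : LocImm.IsLocalizing f) : Flat f := by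
  refine Flat.of_stalkMap _ fun x => ?_
  obtain ⟨U, V, hxV, e, hQ⟩ := hf x
  have h1 : (f.appLE U V e).hom.Flat := by
    algebraize [(f.appLE U V e).hom]
    obtain ⟨M, hM⟩ := hQ
    exact IsLocalization.flat Γ(X, V.1) M
  haveI : Flat (Spec.map (f.appLE U V e)) := Flat.SpecMap_iff.mpr h1
  haveI : Flat (V.1.ι ≫ f) := by rw [chart f U V e]; infer_instance
  have h2 := Flat.stalkMap (V.1.ι ≫ f) ⟨x, hxV⟩
  rw [Scheme.Hom.stalkMap_comp] at h2
  haveI : IsIso (V.1.ι.stalkMap (⟨x, hxV⟩ : V.1.toScheme)) := inferInstance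
  exact (@RingHom.RespectsIso.cancel_right_isIso _ RingHom.Flat.respectsIso _ _ _ (f.stalkMap x)
    (V.1.ι.stalkMap (⟨x, hxV⟩ : V.1.toScheme)) this).1 h2

theorem surjectiveOnStalks (hf : LocImm.IsLocalizing f) : SurjectiveOnStalks f := by
  refine ⟨fun x ↦ ?_⟩
  obtain ⟨U, V, hxV, e, hQ⟩ := hf x
  have h1 : RingHom.SurjectiveOnStalks (f.appLE U V e).hom := by
    let _ := (f.appLE U V e).hom.toAlgebra
    obtain ⟨M, hM⟩ := hQ
    exact RingHom.surjectiveOnStalks_of_isLocalization (M := M) Γ(X, V.1)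
  haveI : SurjectiveOnStalks (Spec.map (f.appLE U V e)) := SurjectiveOnStalks.Spec_iff.mpr h1
  haveI : SurjectiveOnStalks (V.1.ι ≫ f) := by rw [chart f U V e]; infer_instance
  have h3 := (V.1.ι ≫ f).stalkMap_surjective ⟨x, hxV⟩
  rw [Scheme.Hom.stalkMap_comp] at h3
  intro a
  obtain ⟨b, hb⟩ := h3 ((V.1.ι.stalkMap ⟨x, hxV⟩).hom a)
  exact ⟨b, (ConcreteCategory.bijective_of_isIso (V.1.ι.stalkMap ⟨x, hxV⟩)).1 hb⟩

/-- A localizing morphism induces isomorphisms on local rings. -/
theorem isIso_stalkMap (hf : LocImm.IsLocalizing f) (x : X) : IsIso (f.stalkMap x) := by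
  haveI := surjectiveOnStalks hf
  haveI := flat hf
  refine (ConcreteCategory.isIso_iff_bijective _).2 ⟨?_, f.stalkMap_surjective x⟩
  algebraize [(f.stalkMap x).hom]
  haveI : Module.Flat (Y.presheaf.stalk (f x)) (X.presheaf.stalk x) := Flat.stalkMap f x
  haveI := @Module.FaithfullyFlat.of_flat_of_isLocalHom _ _ _ _ _ _ _ (Flat.stalkMap f x) (f.toLRSHom.prop x)
  exact FaithfulSMul.algebraMap_injective (Y.presheaf.stalk (f x)) (X.presheaf.stalk x)

theorem mono (hf : LocImm.IsLocImmersion f) : Mono f := by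
  haveI := surjectiveOnStalks hf.1
  exact SurjectiveOnStalks.mono_of_injective hf.2

theorem range_stableUnderGeneralization (hf : LocImm.IsLocalizing f) :
    StableUnderGeneralization (Set.range f) := by
  haveI := flat hf
  exact (Flat.generalizingMap (f := f)).stableUnderGeneralization_range

/-- A localizing immersion of a Noetherian scheme is a topological embedding. -/
theorem isEmbedding [IsNoetherian X] (hf : LocImm.IsLocImmersion f) : IsEmbedding (fun x => f x) := by
  haveI := flat hf.1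
  have hg := Flat.generalizingMap (f := f)
  have hreflect : ∀ a b : X, f a ⤳ f b → a ⤳ b := fun a b h => by
    obtain ⟨c, hc, e⟩ := hg h
    obtain rfl := hf.2 e
    exact hc
  refine ⟨⟨?_⟩, hf.2⟩
  refine le_antisymm (continuous_iff_le_induced.mp f.continuous) ?_
  rw [TopologicalSpace.le_def]
  intro W hW
  obtain ⟨T, hTf, hTc, hTi, hWT⟩ := NoetherianSpace.exists_finite_set_isClosed_irreducible hW.isClosed_compl
  refine isOpen_induced_iff.2 ⟨(⋃ t ∈ T, closure ((fun x => f x) '' t))ᶜ, ?_, ?_⟩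
  · exact (hTf.isClosed_biUnion fun t _ => isClosed_closure).isOpen_compl
  · ext a
    have hmem : ∀ b, b ∈ Wᶜ ↔ ∃ t ∈ T, b ∈ t := fun b => by rw [hWT, Set.mem_sUnion]
    simp only [Set.mem_preimage, Set.mem_compl_iff, Set.mem_iUnion, not_exists]
    refine ⟨fun h => by_contra fun hc => ?_, fun ha t ht h => ?_⟩
    · obtain ⟨t, ht, hat⟩ := (hmem a).1 hc
      exact h t ht (subset_closure ⟨a, hat, rfl⟩)
    · obtain ⟨η, hη⟩ := QuasiSober.sober (hTi t ht) (hTc t ht)
      have hsub : (fun x => f x) '' t ⊆ closure {f η} := by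
        rintro _ ⟨b, hb, rfl⟩
        exact ((hη.specializes hb).map f.continuous).mem_closure
      have hs : f η ⤳ f a := specializes_iff_mem_closure.2 (closure_minimal hsub isClosed_closure h)
      exact (hmem a).2 ⟨t, ht, (hreflect _ _ hs).mem_closed (hTc t ht) hη.mem⟩ ha

theorem isPreimmersion [IsNoetherian X] (hf : LocImm.IsLocImmersion f) : IsPreimmersion f :=
  have := surjectiveOnStalks hf.1
  ⟨isEmbedding hf⟩

end GrothLib.LocImm8
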