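import Groth.Agent.Lib.LocImm8.Near
import Groth.Agent.S18195
import Groth.Agent.Lib.Nagata6.Consequences
import Groth.Agent.Lib.Nagata6.CommonCor
import Groth.Agent.Lib.BlowUp.Universal

/-!
# Extending morphisms from localizing immersions after admissible blow-ups
-/

set_option autoImplicit false
set_option backward.isDefEq.respectTransparency false
set_option linter.style.haveILetI false

universe u

open CategoryTheory CategoryTheory.Limits AlgebraicGeometry TopologicalSpace

namespace GrothLib.LocImm8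

theorem isLocalizing_comp_openImmersion {X Y Z : Scheme.{u}} {f : X ⟶ Y} (hf : LocImm.IsLocalizing f)
    (j : Y ⟶ Z) [IsOpenImmersion j] : LocImm.IsLocalizing (f ≫ j) := by
  intro x
  obtain ⟨U, V, hxV, e, hQ⟩ := hf x
  have e' : V.1 ≤ (f ≫ j) ⁻¹ᵁ (j ''ᵁ U.1) := by
    rw [Scheme.Hom.comp_preimage, Scheme.Hom.preimage_image_eq]; exact e
  refine ⟨⟨j ''ᵁ U.1, U.2.image_of_isOpenImmersion j⟩, V, hxV, e', ?_⟩
  refine isLocHom_congr (f.appLE U V e) _ (j.appIso U.1).symm (Iso.refl _) ?_ hQ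
  rw [Iso.symm_hom, Iso.inv_comp_eq, Iso.refl_hom, Category.comp_id, Scheme.Hom.appIso_hom',
    Scheme.Hom.appLE_comp_appLE]

theorem isLocImmersion_toImage {Z P X₀ : Scheme.{u}} [IsNoetherian Z] [IsNoetherian X₀] (l : Z ⟶ P)
    [IsNoetherian P] (p : P ⟶ X₀) [IsSeparated p] (h : LocImm.IsLocImmersion (l ≫ p))
    [IsNoetherian l.image] : LocImm.IsLocImmersion l.toImage := by
  haveI : IsSeparated (l.imageι ≫ p) := inferInstance
  haveI := Misc6.isSchemeTheoreticallyDominant_toImage l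
  exact Groth.Agent.S18195.result l.toImage (l.imageι ≫ p) (by rwa [Scheme.Hom.toImage_imageι_assoc])
    (fun U => l.toImage.app_injective U)

/-- The finite type core: an open `W` around the image over which the morphism is defined, and its
extension to a closed graph after a blow-up of the complement of `W`. -/
theorem exists_extension_ft {S X Y Z : Scheme.{u}} [IsNoetherian S] [IsNoetherian X] [IsNoetherian Y]
    [IsNoetherian Z] (a : X ⟶ S) (b : Y ⟶ S) [IsSeparated a] [IsSeparated b]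
    [LocallyOfFiniteType a] [LocallyOfFiniteType b]
    (j : Z ⟶ X) (hj : LocImm.IsLocImmersion j) (f : Z ⟶ Y) (hjf : j ≫ a = f ≫ b) :
    ∃ (I : X.IdealSheafData) (Xt : Scheme.{u}) (q : Xt ⟶ X) (W : Xt.Opens) (ft : (W : Scheme.{u}) ⟶ Y)
      (u : Z ⟶ (W : Scheme.{u})) (hft : W.ι ≫ q ≫ a = ft ≫ b),
      BlowUp.IsBlowUp q I ∧ Disjoint (I.support : Set X) (Set.range j) ∧ Dense (W : Set Xt) ∧
      IsClosedImmersion (pullback.lift W.ι ft hft) ∧ u ≫ W.ι ≫ q = j ∧ u ≫ ft = f := by
  let l : Z ⟶ pullback a b := pullback.lift j f hjf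
  haveI : QuasiCompact a := inferInstance
  haveI : QuasiCompact b := inferInstance
  haveI : IsLocallyNoetherian (pullback a b : Scheme.{u}) :=
    LocallyOfFiniteType.isLocallyNoetherian (pullback.fst a b)
  haveI : CompactSpace (pullback a b : Scheme.{u}) := QuasiCompact.compactSpace_of_compactSpace (pullback.fst a b)
  haveI : IsNoetherian (pullback a b : Scheme.{u}) := ⟨⟩
  haveI : IsLocallyNoetherian l.image := LocallyOfFiniteType.isLocallyNoetherian l.imageι
  haveI : CompactSpace l.image := QuasiCompact.compactSpace_of_compactSpace l.imageι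
  haveI : IsNoetherian l.image := ⟨⟩
  have hl : LocImm.IsLocImmersion l.toImage :=
    isLocImmersion_toImage l (pullback.fst a b) (by rw [pullback.lift_fst]; exact hj)
  let g := l.imageι ≫ pullback.fst a b
  have hlg : l.toImage ≫ g = j := by
    simp only [g, Scheme.Hom.toImage_imageι_assoc]; exact pullback.lift_fst _ _ _
  obtain ⟨L, hL, hLg⟩ := exists_isOpenImmersion_near g hl (hlg.symm ▸ hj)
  let h := L.ι ≫ g
  let k : Z ⟶ L.toScheme := IsOpenImmersion.lift L.ι l.toImage (by rw [Scheme.Opens.range_ι]; exact hL)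
  have hk : k ≫ L.ι = l.toImage := IsOpenImmersion.lift_fac _ _ _
  let U := h.opensRange
  let φ : (U : Scheme.{u}) ⟶ Y := h.isoOpensRange.inv ≫ L.ι ≫ l.imageι ≫ pullback.snd a b
  have hφ : U.ι ≫ a = φ ≫ b := by
    rw [← Scheme.Hom.isoOpensRange_inv_comp h]
    simp only [φ, h, g, Category.assoc, pullback.condition]
  have hU : IsCompact (U : Set X) := NoetherianSpace.isCompact _
  obtain ⟨I, Xt, q, hq, hI, hIs, W, hle, ft, hft, hd, hag, hcl⟩ :=
    QuasiDom6.exists_quasiDomination_extending' a b U U le_rfl hU hU subset_closure φ hφ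
      (Nagata6.closure_graph_inter_subset a b U φ hφ)
  let t : Z ⟶ (U : Scheme.{u}) := k ≫ h.isoOpensRange.hom
  have ht : t ≫ U.ι = j := by
    simp only [t, U, Category.assoc, Scheme.Hom.isoOpensRange_hom_ι, h]
    rw [reassoc_of% hk, hlg]
  have htφ : t ≫ φ = f := by
    simp only [t, φ, Category.assoc, Iso.hom_inv_id_assoc]
    rw [reassoc_of% hk, Scheme.Hom.toImage_imageι_assoc]
    exact pullback.lift_snd _ _ _
  have hd' : Disjoint (I.support : Set X) (Set.range j) := by
    refine hI.2.mono_right ?_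
    rintro _ ⟨z, rfl⟩
    rw [← ht, Scheme.Hom.comp_apply]
    exact (t z).2
  haveI : IsIso (q ∣_ U) := by
    have hUeq : U = I.support.compl := by
      apply TopologicalSpace.Opens.ext
      rw [Closeds.coe_compl, hIs, compl_compl]
    exact hUeq ▸ GrothLib.BlowUp.isIso_off_center hq
  refine ⟨I, Xt, q, W, ft, t ≫ inv (q ∣_ U) ≫ Xt.homOfLE hle, hft, hq, hd', hd,
    Nagata6.isClosedImmersion_graph W.ι ft hft hcl, ?_, ?_⟩
  · simp only [Category.assoc, Scheme.homOfLE_ι_assoc]
    rw [← morphismRestrict_ι, IsIso.inv_hom_id_assoc, ht]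
  · simp only [Category.assoc, hag, IsIso.inv_hom_id_assoc, htφ]

end GrothLib.LocImm8

namespace GrothLib.LocImm8

/-- Base change of a finite type extension along localizing immersions of the source and the target. -/
theorem exists_extension {S X Y Z X₀ Y₀ : Scheme.{u}} [IsNoetherian S] [IsNoetherian X] [IsNoetherian Y]
    [IsNoetherian X₀] [IsNoetherian Y₀] [IsNoetherian Z] (iX : X ⟶ X₀) (hiX : LocImm.IsLocImmersion iX)
    (iY : Y ⟶ Y₀) (hiY : LocImm.IsLocImmersion iY) (a : X₀ ⟶ S) (b : Y₀ ⟶ S) [IsSeparated a] [IsSeparated b]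
    [LocallyOfFiniteType a] [LocallyOfFiniteType b]
    (j : Z ⟶ X) (hj : LocImm.IsLocImmersion j) (f : Z ⟶ Y) (hjf : j ≫ iX ≫ a = f ≫ iY ≫ b) :
    ∃ (𝓘 : X.IdealSheafData) (Xt Z' : Scheme.{u}) (c : Xt ⟶ X) (j' : Z' ⟶ Xt) (e : Z ⟶ Z') (f' : Z' ⟶ Y)
      (h : j' ≫ (c ≫ iX ≫ a) = f' ≫ iY ≫ b),
      BlowUp.IsBlowUp c 𝓘 ∧ Disjoint (𝓘.support : Set X) (Set.range (fun x => j x)) ∧
      LocImm.IsLocImmersion j' ∧ e ≫ j' ≫ c = j ∧ e ≫ f' = f ∧
      IsClosedImmersion (pullback.lift j' f' h) := by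
  obtain ⟨I, X1, q, W, ft, u, hft, hq, hdis, -, hcl, hu, huf⟩ :=
    exists_extension_ft a b (j ≫ iX) (isLocImmersion_comp hj hiX) (f ≫ iY) (by simpa using hjf)
  haveI := flat hiX.1
  haveI := mono hiY
  let c := pullback.fst iX q
  let pr := pullback.snd iX q
  have hc := GrothLib.BlowUp.isBlowUp_flat_baseChange iX hq
  let WX := pullback W.ι pr
  let α : WX ⟶ Y₀ := pullback.fst W.ι pr ≫ ft
  let Z' := pullback iY α
  let j' : Z' ⟶ pullback iX q := pullback.snd iY α ≫ pullback.snd W.ι pr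
  let f' : Z' ⟶ Y := pullback.fst iY α
  have h : j' ≫ (c ≫ iX ≫ a) = f' ≫ iY ≫ b := by
    simp only [j', f', c, Category.assoc]
    rw [pullback.condition_assoc (f := iX), pullback.condition_assoc (f := iY)]
    simp only [α, pr, Category.assoc]
    rw [← hft, pullback.condition_assoc (f := W.ι)]
  let u' : Z ⟶ pullback iX q := pullback.lift j (u ≫ W.ι) (by rw [Category.assoc, hu])
  let uW : Z ⟶ WX := pullback.lift u u' (pullback.lift_snd _ _ _).symm
  let e : Z ⟶ Z' := pullback.lift f uW (by rw [pullback.lift_fst_assoc, huf])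
  have hdis' : Disjoint ((I.comap iX).support : Set X) (Set.range (fun x => j x)) := by
    rw [Scheme.IdealSheafData.support_comap]
    refine Set.disjoint_left.2 ?_
    rintro _ hx ⟨z, rfl⟩
    exact Set.disjoint_left.1 hdis hx ⟨z, Scheme.Hom.comp_apply _ _ _⟩
  have hj' : LocImm.IsLocImmersion j' :=
    ⟨isLocalizing_comp_openImmersion (isLocalizing_pullback_snd hiY.1 α) _, j'.injective⟩
  haveI : Mono (pullback.lift (f := c ≫ iX ≫ a) (g := iY ≫ b) j' f' h) := by
    haveI : Mono (pullback.lift (f := c ≫ iX ≫ a) (g := iY ≫ b) j' f' h ≫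
        pullback.fst (c ≫ iX ≫ a) (iY ≫ b)) := by
      rw [pullback.lift_fst]; infer_instance
    exact mono_of_mono _ (pullback.fst (c ≫ iX ≫ a) (iY ≫ b))
  let m : pullback (c ≫ iX ≫ a) (iY ≫ b) ⟶ pullback (q ≫ a) b :=
    pullback.map _ _ _ _ pr iY (𝟙 S) (by simp only [c, pr, Category.comp_id]; rw [pullback.condition_assoc (f := iX)])
      (by rw [Category.comp_id])
  let γ := pullback.lift (f := q ≫ a) (g := b) W.ι ft hft
  let φ : Z' ⟶ pullback m γ := pullback.lift (pullback.lift j' f' h) (pullback.snd iY α ≫ pullback.fst W.ι pr) (by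
    apply pullback.hom_ext
    · simp only [m, γ, j', f', pullback.map, Category.assoc, pullback.lift_fst, pullback.lift_fst_assoc]
      rw [pullback.condition (f := W.ι)]
    · simp only [m, γ, j', f', pullback.map, Category.assoc, pullback.lift_snd, pullback.lift_snd_assoc]
      rw [pullback.condition (f := iY)])
  have w := pullback.condition (f := m) (g := γ)
  let ψ : pullback m γ ⟶ Z' := pullback.lift (pullback.fst m γ ≫ pullback.snd _ _)
    (pullback.lift (pullback.snd m γ) (pullback.fst m γ ≫ pullback.fst _ _) (by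
      have := congr($w ≫ pullback.fst _ _)
      simpa only [m, γ, pullback.map, Category.assoc, pullback.lift_fst, pullback.lift_fst_assoc] using this.symm))
    (by
      simp only [α, pullback.lift_fst_assoc]
      have := congr($w ≫ pullback.snd _ _)
      simpa only [m, γ, pullback.map, Category.assoc, pullback.lift_snd, pullback.lift_snd_assoc] using this)
  have hψ : ψ ≫ pullback.lift (f := c ≫ iX ≫ a) (g := iY ≫ b) j' f' h = pullback.fst m γ := by
    apply pullback.hom_ext
    · simp only [ψ, j', Category.assoc, pullback.lift_fst, pullback.lift_snd, pullback.lift_snd_assoc]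
    · simp only [ψ, f', Category.assoc, pullback.lift_snd, pullback.lift_fst]
  have hφ : φ ≫ pullback.fst m γ = pullback.lift (f := c ≫ iX ≫ a) (g := iY ≫ b) j' f' h := pullback.lift_fst _ _ _
  haveI : IsIso ψ := ⟨φ, by
    rw [← cancel_mono (pullback.fst m γ), Category.assoc, hφ, hψ, Category.id_comp], by
    rw [← cancel_mono (pullback.lift (f := c ≫ iX ≫ a) (g := iY ≫ b) j' f' h), Category.assoc, hψ, hφ,
      Category.id_comp]⟩
  refine ⟨I.comap iX, _, Z', c, j', e, f', h, hc, hdis', hj', ?_, pullback.lift_fst _ _ _, ?_⟩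
  · simp only [e, j', c, uW, u', pullback.lift_snd_assoc, pullback.lift_fst, Category.assoc]
  · rw [← (IsIso.inv_comp_eq ψ).2 hψ.symm]
    infer_instance

end GrothLib.LocImm8

namespace GrothLib.LocImm8

/-- A finite type morphism between two schemes sharing a localizing subscheme becomes an open immersion
after admissible blow-ups. -/
theorem exists_lift_ft {X Y Z : Scheme.{u}} [IsNoetherian X] [IsNoetherian Y] [IsNoetherian Z]
    (k : X ⟶ Y) (g : Y ⟶ Z) [IsSeparated g] [LocallyOfFiniteType g]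
    (hk : LocImm.IsLocImmersion k) (hkg : LocImm.IsLocImmersion (k ≫ g)) :
    ∃ (P : Y.IdealSheafData) (J : Z.IdealSheafData) (Zt : Scheme.{u}) (c : Zt ⟶ Z) (W : Zt.Opens)
      (b : (W : Scheme.{u}) ⟶ Y),
      BlowUp.IsBlowUp b P ∧ Disjoint (P.support : Set Y) (Set.range k) ∧
      BlowUp.IsBlowUp c J ∧ Disjoint (J.support : Set Z) (Set.range (fun x => g (k x))) ∧
      b ≫ g = W.ι ≫ c ∧ (IsProper g → W = ⊤) := by
  obtain ⟨L, hL, hLg⟩ := exists_isOpenImmersion_near g hk hkg
  let U := (L.ι ≫ g).opensRange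
  obtain ⟨B, hB, hBs⟩ := FgSupport6.exists_fg_support_eq L (NoetherianSpace.isCompact _)
  obtain ⟨Y1, b1, hb1⟩ := GrothLib.BlowUp.exists_isBlowUp Y B
  haveI := Nagata6.isProper_of_isBlowUp hB hb1
  have hoff : B.support.compl = L := by
    apply TopologicalSpace.Opens.ext
    rw [Closeds.coe_compl, hBs, compl_compl]
  haveI : IsIso (b1 ∣_ L) := hoff ▸ GrothLib.BlowUp.isIso_off_center hb1
  let L' := b1 ⁻¹ᵁ L
  have hdense : Dense (L' : Set Y1) := by
    have := QuasiDom6.dense_compl_support hb1.1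
    rw [Scheme.IdealSheafData.support_comap] at this
    refine this.mono fun y hy => ?_
    have : b1 y ∈ (B.support : Set Y)ᶜ := hy
    rwa [hBs, compl_compl] at this
  let π := b1 ≫ g
  haveI : IsOpenImmersion (L'.ι ≫ π) := by
    rw [show L'.ι ≫ π = (b1 ∣_ L) ≫ L.ι ≫ g by rw [morphismRestrict_ι_assoc]]
    infer_instance
  have hUr : (L'.ι ≫ π).opensRange = U := by
    apply TopologicalSpace.Opens.ext
    rw [Scheme.Hom.coe_opensRange, show L'.ι ≫ π = (b1 ∣_ L) ≫ L.ι ≫ g by rw [morphismRestrict_ι_assoc],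
      Nagata6.range_iso_comp (b1 ∣_ L) (L.ι ≫ g), Scheme.Hom.coe_opensRange]
  have hpre : π ⁻¹ᵁ U ≤ L' := by
    rw [← hUr]
    let Uπ := π ⁻¹ᵁ (L'.ι ≫ π).opensRange
    have hle : L' ≤ Uπ := fun y hy => ⟨⟨y, hy⟩, rfl⟩
    let s : ((L'.ι ≫ π).opensRange : Scheme.{u}) ⟶ (Uπ : Scheme.{u}) :=
      (L'.ι ≫ π).isoOpensRange.inv ≫ Y1.homOfLE hle
    have hs : s ≫ (π ∣_ (L'.ι ≫ π).opensRange) = 𝟙 _ := by
      rw [← cancel_mono (L'.ι ≫ π).opensRange.ι]
      simp only [s, Category.assoc, morphismRestrict_ι, Category.id_comp]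
      rw [Scheme.homOfLE_ι_assoc, Scheme.Hom.isoOpensRange_inv_comp]
    haveI : IsClosedImmersion (s ≫ (π ∣_ (L'.ι ≫ π).opensRange)) := by rw [hs]; infer_instance
    haveI : IsClosedImmersion s := IsClosedImmersion.of_comp s (π ∣_ (L'.ι ≫ π).opensRange)
    have hcl : IsClosed (Set.range (Y1.homOfLE hle)) := by
      rw [show Set.range (Y1.homOfLE hle) = Set.range s from (Nagata6.range_iso_comp _ _).symm]
      exact s.isClosedEmbedding.isClosed_range
    intro y hy
    have hd : (⟨y, hy⟩ : (Uπ : Scheme.{u})) ∈ closure (Set.range (Y1.homOfLE hle)) := by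
      rw [Uπ.ι.isOpenEmbedding.isInducing.closure_eq_preimage_closure_image]
      show y ∈ closure (Uπ.ι '' Set.range (Y1.homOfLE hle))
      rw [← Set.range_comp, ← TopCat.coe_comp, ← Scheme.Hom.comp_base, Scheme.homOfLE_ι,
        Scheme.Opens.range_ι, hdense.closure_eq]
      trivial
    rw [hcl.closure_eq] at hd
    obtain ⟨z, hz⟩ := hd
    have h := congrArg (fun w => Uπ.ι w) hz
    simp only [← Scheme.Hom.comp_apply, Scheme.homOfLE_ι] at h
    exact (show L'.ι z = y from h) ▸ z.2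
  haveI : IsIso (π ∣_ U) := hUr ▸ Nagata6.isIso_restrict_image π L' (hUr.symm ▸ hpre)
  have hU : IsCompact (U : Set Z) := NoetherianSpace.isCompact _
  obtain ⟨J, Zt, c, W, h, hc, hJ, hJs, -, -, hh, hhb, -, htop⟩ :=
    Nagata6.exists_modification π U U le_rfl hU hU subset_closure le_rfl
  obtain ⟨P, -, hPs, hPb⟩ := Nagata6.exists_isBlowUp_comp hB hb1 (Nagata6.fg_comap' J hJ.1 π) hhb
  refine ⟨P, J, Zt, c, W, h ≫ b1, hPb, ?_, hc, ?_, by rw [Category.assoc]; exact hh, fun hg => ?_⟩
  · rw [hPs]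
    refine Set.disjoint_left.2 ?_
    rintro _ hy ⟨x, rfl⟩
    rcases hy with hy | ⟨y, hy, hxy⟩
    · rw [hBs] at hy; exact hy (hL ⟨x, rfl⟩)
    · rw [Scheme.IdealSheafData.support_comap] at hy
      change b1 y = k x at hxy
      refine Set.disjoint_left.1 hJ.2 hy ⟨⟨k x, hL ⟨x, rfl⟩⟩, ?_⟩
      show g (k x) = π y
      rw [← hxy]; rfl
  · refine Set.disjoint_left.2 ?_
    rintro _ hy ⟨x, rfl⟩
    exact Set.disjoint_left.1 hJ.2 hy ⟨⟨k x, hL ⟨x, rfl⟩⟩, rfl⟩
  · haveI := hg
    exact htop inferInstance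

end GrothLib.LocImm8
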